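import Groth.Agent.Devissage.Core

/-!
The dévissage lemmas.
-/

set_option autoImplicit false
set_option backward.isDefEq.respectTransparency false

universe u

open CategoryTheory CategoryTheory.Limits AlgebraicGeometry TopologicalSpace Opposite

noncomputable section

namespace Groth.Agent.Devissage

open Groth.Agent.QC Groth.Agent.WeakAssLib

variable {X : Scheme.{u}}

lemma simpleAt_of_residue {ξ : X} {G : X.Modules}
    (e : G.presheaf.stalk ξ ≃ₗ[X.presheaf.stalk ξ] IsLocalRing.ResidueField (X.presheaf.stalk ξ)) :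
    SimpleAt ξ G := fun m hm m' => by
  have he : e m ≠ 0 := fun h => hm (e.map_eq_zero_iff.1 h)
  obtain ⟨c, hc⟩ := IsLocalRing.residue_surjective (e m' * (e m)⁻¹)
  refine ⟨c, e.injective ?_⟩
  rw [map_smul, Algebra.smul_def, IsLocalRing.ResidueField.algebraMap_eq, hc, mul_assoc, inv_mul_cancel₀ he, mul_one]

lemma mem_support_of_residue {ξ : X} {G : X.Modules}
    (e : G.presheaf.stalk ξ ≃ₗ[X.presheaf.stalk ξ] IsLocalRing.ResidueField (X.presheaf.stalk ξ)) :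
    ξ ∈ CohB1.support G := fun h => by
  have := e.symm.toEquiv.subsingleton
  exact not_subsingleton (IsLocalRing.ResidueField (X.presheaf.stalk ξ)) this

lemma simpleAt_of_length {ξ : X} {G : X.Modules}
    (h : Module.length (X.presheaf.stalk ξ) (G.presheaf.stalk ξ) = 1) :
    SimpleAt ξ G ∧ ξ ∈ CohB1.support G := by
  have hs := Module.length_eq_one_iff.1 h
  refine ⟨fun m hm m' => ?_, fun hsub => ?_⟩
  · have : m' ∈ Submodule.span (X.presheaf.stalk ξ) {m} := by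
      rcases eq_bot_or_eq_top (Submodule.span (X.presheaf.stalk ξ) {m}) with h' | h'
      · exact absurd (Submodule.span_singleton_eq_bot.1 h') hm
      · rw [h']; trivial
    obtain ⟨c, hc⟩ := Submodule.mem_span_singleton.1 this
    exact ⟨c, hc.symm⟩
  · have := IsSimpleModule.nontrivial (X.presheaf.stalk ξ) (G.presheaf.stalk ξ)
    exact not_subsingleton (G.presheaf.stalk ξ) hsub

/-- Dévissage for two-out-of-three properties. -/
theorem twothree [IsNoetherian X] (P : X.Modules → Prop)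
    (h0 : ∀ M : X.Modules, IsZero M → P M) (B : Closeds X)
    (h₁ : ∀ S : ShortComplex X.Modules, S.ShortExact → Coh.IsCoh S.X₁ → Coh.IsCoh S.X₂ → Coh.IsCoh S.X₃ →
      CohB1.support S.X₂ ⊆ B →
      (P S.X₁ → P S.X₂ → P S.X₃) ∧ (P S.X₁ → P S.X₃ → P S.X₂) ∧ (P S.X₂ → P S.X₃ → P S.X₁))
    (hgen : ∀ ξ ∈ B, (∀ R : X.Modules, IsPiece ξ R → P R) ∨ ∃ G : X.Modules, Coh.IsCoh G ∧ CohB1.support G ⊆ closure {ξ} ∧
      ξ ∈ CohB1.support G ∧ SimpleAt ξ G ∧ P G)
    (M : X.Modules) (hM : Coh.IsCoh M) (hMB : CohB1.support M ⊆ B) : P M := by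
  refine dev_core P h0 B (fun S hS a b c d => (h₁ S hS a b c d).2.1) (fun ξ hξ hsmall R hR => ?_) M hM hMB
  rcases hgen ξ hξ with h | ⟨G, hG, hs, hm, hsimp, hPG⟩
  · exact h R hR
  · exact piece_of_simple P B h₁ hξ hsmall G hG hs hm hsimp hPG hR

/-- S0027 -/
theorem induction_ideals [IsNoetherian X] [Nonempty X] (P : X.Modules → Prop)
    (hP : ∀ M N : X.Modules, Nonempty (M ≅ N) → P M → P N)
    (h₁ : ∀ S : ShortComplex X.Modules, S.ShortExact → Coh.IsCoh S.X₁ → Coh.IsCoh S.X₂ → Coh.IsCoh S.X₃ →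
      P S.X₁ → P S.X₃ → P S.X₂)
    (h₂ : ∀ (Z : Scheme.{u}) (i : Z ⟶ X), IsClosedImmersion i → IsIntegral Z →
      ∀ (I : Z.Modules) (ι : I ⟶ Coh.structureModule Z), Mono ι → Coh.IsQCoh I → P ((Coh.push i).obj I))
    (M : X.Modules) (hM : Coh.IsCoh M) : P M := by
  refine dev_core P (fun N hN => ?_) ⊤ (fun S hS a b c _ => h₁ S hS a b c) (fun ξ _ _ R hR => ?_) M hM
    (by simp)
  · obtain ⟨x⟩ := ‹Nonempty X›
    have hint := Zi_isIntegral x
    let Z := (Scheme.IdealSheafData.vanishingIdeal (Zc x)).subscheme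
    let I := kernel (𝟙 (Coh.structureModule Z))
    have hI : IsZero I := isZero_kernel_of_mono _
    refine hP _ _ ⟨(((Scheme.Modules.pushforward (Zi x)).map_isZero hI).iso hN)⟩
      (h₂ _ (Zi x) inferInstance hint I (kernel.ι _) inferInstance ?_)
    exact isQCoh_kernel (isQCoh_unit Z) (isQCoh_unit Z) _
  · obtain ⟨I, ι, hι, hIq, -, ⟨e⟩⟩ := piece_iso_push hR
    exact hP _ _ ⟨e.symm⟩ (h₂ _ (Zi ξ) inferInstance (Zi_isIntegral ξ) I ι hι hIq)

/-- S0026 -/
theorem filtration [IsNoetherian X] (M : X.Modules) (hM : Coh.IsCoh M) :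
    ∃ (m : ℕ) (F : ℕ → X.Modules) (φ : (j : ℕ) → (F j ⟶ F (j + 1))), IsZero (F 0) ∧ Nonempty (F m ≅ M) ∧
      (∀ j ≤ m, Coh.IsCoh (F j)) ∧ ∀ j < m, Mono (φ j) ∧ ∃ (Z : Scheme.{u}) (i : Z ⟶ X),
        IsClosedImmersion i ∧ IsIntegral Z ∧ ∃ (I : Z.Modules) (ι : I ⟶ Coh.structureModule Z),
          Mono ι ∧ Coh.IsQCoh I ∧ ¬ IsZero I ∧ Nonempty (cokernel (φ j) ≅ (Coh.push i).obj I) := by
  have hF := filt_of_isCoh M hM
  induction hF with
  | @zero M h =>
    refine ⟨0, fun _ => M, fun _ => 𝟙 M, h, ⟨Iso.refl _⟩, fun j _ => hM, fun j hj => absurd hj (Nat.not_lt_zero j)⟩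
  | @step N M R f g w ξ hS hN hNc hMc hR ih =>
    obtain ⟨m, F, φ, h0, ⟨e⟩, hc, hstep⟩ := ih hNc
    let F' : ℕ → X.Modules := fun j => if j ≤ m then F j else M
    have hlo : ∀ {j}, j ≤ m → F' j = F j := fun h => if_pos h
    have hhi : ∀ {j}, ¬ j ≤ m → F' j = M := fun h => if_neg h
    let φ' : (j : ℕ) → (F' j ⟶ F' (j + 1)) := fun j =>
      if h : j + 1 ≤ m then eqToHom (hlo (by omega)) ≫ φ j ≫ eqToHom (hlo h).symm
      else if h' : j = m then eqToHom ((hlo h'.le).trans (congrArg F h')) ≫ e.hom ≫ f ≫ eqToHom (hhi h).symm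
      else eqToHom ((hhi (by omega)).trans (hhi h).symm)
    refine ⟨m + 1, F', φ', (hlo (Nat.zero_le m)).symm ▸ h0, ⟨eqToIso (hhi (by omega))⟩, fun j _ => ?_, fun j hj => ?_⟩
    · by_cases h : j ≤ m
      · rw [hlo h]; exact hc j h
      · rw [hhi h]; exact hMc
    · have : Mono f := hS.mono_f
      by_cases h : j + 1 ≤ m
      · obtain ⟨hmono, Z, i, hi, hZ, I, ι, hι, hIq, hIn, ⟨c⟩⟩ := hstep j (by omega)
        have hφ : φ' j = eqToHom (hlo (by omega)) ≫ φ j ≫ eqToHom (hlo h).symm := dif_pos h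
        rw [hφ]
        exact ⟨inferInstance, Z, i, hi, hZ, I, ι, hι, hIq, hIn,
          ⟨cokernelEpiComp _ _ ≪≫ cokernelCompIsIso _ _ ≪≫ c⟩⟩
      · obtain rfl : j = m := by omega
        have hφ : φ' j = eqToHom ((hlo le_rfl).trans rfl) ≫ e.hom ≫ f ≫ eqToHom (hhi h).symm :=
          (dif_neg h).trans (dif_pos rfl)
        rw [hφ]
        have := hS.epi_g
        obtain ⟨I, ι, hι, hIq, hIn, ⟨c⟩⟩ := piece_iso_push hR
        exact ⟨inferInstance, _, Zi ξ, inferInstance, Zi_isIntegral ξ, I, ι, hι, hIq, hIn,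
          ⟨cokernelEpiComp _ _ ≪≫ cokernelEpiComp _ _ ≪≫ cokernelCompIsIso _ _ ≪≫
            (cokernelIsCokernel f).coconePointUniqueUpToIso hS.gIsCokernel ≪≫ c⟩⟩

end Groth.Agent.Devissage
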