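import Groth.Agent.Devissage.Power
import Groth.Agent.Devissage.Apply
import Groth.Agent.ClSubLib.AnnIdeal
import Groth.Prelude.Def_Dual3

/-!
Dévissage for classes closed under roots of powers or summands.
-/

set_option autoImplicit false
set_option backward.isDefEq.respectTransparency false

universe u

open CategoryTheory CategoryTheory.Limits AlgebraicGeometry TopologicalSpace Opposite

noncomputable section

namespace Groth.Agent.Devissage

open Groth.Agent.QC Groth.Agent.WeakAssLib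

attribute [local instance] Abelian.hasFiniteBiproducts

variable {X : Scheme.{u}}

lemma smul_stalk_of_killed {ξ : X} {G : X.Modules} (hk : ClSub.KilledByIdeal (Zi ξ).ker G) :
    ∀ a ∈ IsLocalRing.maximalIdeal (X.presheaf.stalk ξ), ∀ m : G.presheaf.stalk ξ, a • m = 0 := by
  obtain ⟨z, hz⟩ : ξ ∈ Set.range (Zi ξ) := by rw [range_Zi]; exact subset_closure rfl
  have key : ∀ (W : X.Opens) (hW : Zi ξ z ∈ W) (a : Γ(X, W)) (m : G.presheaf.stalk (Zi ξ z)),
      ¬ IsUnit ((X.presheaf.germ W (Zi ξ z) hW).hom a) → (X.presheaf.germ W (Zi ξ z) hW).hom a • m = 0 := by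
    intro W hW a m hu
    refine ClSubLib.smul_stalk_eq_zero (Zi ξ) G hk z _ ?_ m
    have h0 : (η ξ).app W a = 0 := (η_eq_zero_iff ξ a).2 fun h hu' => hu (by
      have : ∀ (y : X) (e : y = ξ) (hy : y ∈ W), IsUnit ((X.presheaf.germ W y hy).hom a) := by
        rintro y rfl hy; exact hu'
      exact this _ hz hW)
    exact (Scheme.Hom.germ_stalkMap_apply (Zi ξ) W z hW a).trans
      ((congrArg _ (show ((Zi ξ).app W).hom a = 0 from h0)).trans (map_zero _))
  suffices h : ∀ a ∈ IsLocalRing.maximalIdeal (X.presheaf.stalk (Zi ξ z)),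
      ∀ m : G.presheaf.stalk (Zi ξ z), a • m = 0 by rw [hz] at h; exact h
  intro r hr m
  obtain ⟨W, hW, a, rfl⟩ := X.presheaf.exists_germ_eq (x := Zi ξ z) r
  exact key W hW a m hr

lemma killed_push {ξ : X} (H : (Scheme.IdealSheafData.vanishingIdeal (Zc ξ)).subscheme.Modules) :
    ClSub.KilledByIdeal (Zi ξ).ker ((Scheme.Modules.pushforward (Zi ξ)).obj H) := fun U a ha m => by
  show ((Zi ξ).app U.1).hom a • (show Γ(H, (Zi ξ) ⁻¹ᵁ U.1) from m) = 0
  rw [Scheme.Hom.ker_apply, RingHom.mem_ker] at ha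
  rw [ha, zero_smul]

lemma stalk_surjective_of_isSmall {ξ : X} {N M : X.Modules} (f : N ⟶ M) [Mono f]
    (h : IsSmall ξ (cokernel f)) : Function.Surjective (stalkHom f ξ) := fun m =>
  stalk_exact _ (cokSeq_shortExact f) ξ m (@Subsingleton.elim _ (not_not.1 h.2) _ _)

/-- S10865 -/
theorem roots [IsNoetherian X] [Nonempty X] (K : X.Modules → Prop)
    (hiso : ∀ M N : X.Modules, Nonempty (M ≅ N) → K M → K N)
    (ha : ∀ S : ShortComplex X.Modules, S.ShortExact → Coh.IsCoh S.X₁ → Coh.IsCoh S.X₂ → Coh.IsCoh S.X₃ →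
      (K S.X₂ → K S.X₃ → K S.X₁) ∧ (K S.X₁ → K S.X₃ → K S.X₂))
    (hb : ∀ (F : X.Modules) (d : ℕ), 1 ≤ d → Coh.IsCoh F → K (∐ fun _ : Fin d => F) → K F)
    (hgen : ∀ (Z : Scheme.{u}) (i : Z ⟶ X) [IsClosedImmersion i] [IsIntegral Z], ∃ H : Z.Modules,
      Coh.IsCoh H ∧ Nontrivial (H.presheaf.stalk (genericPoint Z)) ∧ K ((Scheme.Modules.pushforward i).obj H))
    (M : X.Modules) (hM : Coh.IsCoh M) : K M := by
  have key : ∀ ξ : X, ∃ G : X.Modules, Coh.IsCoh G ∧ CohB1.support G ⊆ closure {ξ} ∧ ξ ∈ CohB1.support G ∧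
      (∀ a ∈ IsLocalRing.maximalIdeal (X.presheaf.stalk ξ), ∀ m : G.presheaf.stalk ξ, a • m = 0) ∧ K G := by
    intro ξ
    have := Zi_isIntegral ξ
    obtain ⟨H, hH, hn, hK⟩ := hgen _ (Zi ξ)
    have : H.IsQuasicoherent := hH.1
    refine ⟨_, ⟨isQCoh_pushforward _, (isCoh_pushforward_of_isFinite (Zi ξ) hH.2).2⟩,
      (ClSubLib.support_pushforward_subset (Zi ξ) _).trans (range_Zi ξ).le, ?_,
      smul_stalk_of_killed (killed_push H), hK⟩
    intro hsub
    have hsub' : ∀ y : X, y = ξ → Subsingleton (((Scheme.Modules.pushforward (Zi ξ)).obj H).presheaf.stalk y) := by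
      rintro y rfl; exact hsub
    exact not_subsingleton (H.presheaf.stalk (genericPoint _))
      (@Function.Surjective.subsingleton _ _ _ (hsub' _ (genericPoint_Zi ξ))
        (KFlat.pushStalk_bijective (Zi ξ) (genericPoint _) H).surjective)
  have h0 : ∀ N : X.Modules, IsZero N → K N := fun N hN => by
    obtain ⟨x⟩ := ‹Nonempty X›
    obtain ⟨G, hG, -, -, -, hK⟩ := key x
    have hS : (ShortComplex.mk (0 : N ⟶ G) (𝟙 G) zero_comp).ShortExact := by
      have : Mono (0 : N ⟶ G) := ⟨fun a b _ => hN.eq_of_tgt a b⟩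
      exact { exact := (ShortComplex.exact_iff_mono _ rfl).2 (inferInstanceAs (Mono (𝟙 G))) }
    have hNc : Coh.IsCoh N := by
      have : Mono (0 : N ⟶ G) := hS.mono_f
      exact isCoh_of_mono (0 : N ⟶ G) hG
        (QC.isQCoh_of_iso ((isZero_kernel_of_mono (𝟙 G)).iso hN) (isQCoh_kernel hG.1 hG.1 _))
    exact (ha _ hS hNc hG hG).1 hK hK
  refine dev_core K h0 ⊤ (fun S hS a b c _ => (ha S hS a b c).2) (fun ξ _ hsmall R hR => ?_) M hM (by simp)
  obtain ⟨G, hG, hs, hm, hk, hKG⟩ := key ξ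
  obtain ⟨r, P', a, b, hr, hamono, hbmono, hP', hsa, hsb⟩ := exists_power G hG hs hm hk hR
  have hRr := isCoh_biproduct (fun _ : Fin r => R) fun _ => hR.coh
  have hca := isCoh_cokernel hP'.1 hG a
  have hcb := isCoh_cokernel hP'.1 hRr b
  have hKP : K P' := (ha _ (cokSeq_shortExact a) hP' hG hca).1 hKG (hsmall _ hca hsa)
  exact hb R r hr hR.coh (hiso _ _ ⟨biproduct.isoCoproduct _⟩
    ((ha _ (cokSeq_shortExact b) hP' hRr hcb).2 hKP (hsmall _ hcb hsb)))

/-- S4458 -/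
theorem summands [IsNoetherian X] (K : X.Modules → Prop) (h0 : ∀ M : X.Modules, IsZero M → K M)
    (hex : ∀ S : ShortComplex X.Modules, S.ShortExact → Coh.IsCoh S.X₁ → Coh.IsCoh S.X₂ → Coh.IsCoh S.X₃ →
      (K S.X₁ → K S.X₂ → K S.X₃) ∧ (K S.X₁ → K S.X₃ → K S.X₂) ∧ (K S.X₂ → K S.X₃ → K S.X₁))
    (hsum : ∀ (M N : X.Modules) (i : N ⟶ M) (r : M ⟶ N), i ≫ r = 𝟙 N → Coh.IsCoh M → Coh.IsCoh N → K M → K N)
    (B : Closeds X) (hgen : ∀ ξ ∈ B, ∃ G : X.Modules, Coh.IsCoh G ∧ K G ∧ CohB1.support G ⊆ closure {ξ} ∧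
      ClSub.KilledByIdeal (Zi ξ).ker G ∧ ξ ∈ CohB1.support G)
    (M : X.Modules) (hM : Coh.IsCoh M) (hMB : CohB1.support M ⊆ B) : K M := by
  refine dev_core K h0 B (fun S hS a b c _ => (hex S hS a b c).2.1) (fun ξ hξ hsmall R hR => ?_) M hM hMB
  obtain ⟨G, hG, hKG, hs, hk, hm⟩ := hgen ξ hξ
  obtain ⟨r, P', a, b, hr, hamono, hbmono, hP', hsa, hsb⟩ := exists_power G hG hs hm (smul_stalk_of_killed hk) hR
  have hRr := isCoh_biproduct (fun _ : Fin r => R) fun _ => hR.coh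
  have hca := isCoh_cokernel hP'.1 hG a
  have hcb := isCoh_cokernel hP'.1 hRr b
  have hKP : K P' := (hex _ (cokSeq_shortExact a) hP' hG hca).2.2 hKG (hsmall _ hca hsa)
  exact hsum _ R (biproduct.ι (fun _ : Fin r => R) ⟨0, hr⟩) (biproduct.π _ ⟨0, hr⟩) (biproduct.ι_π_self _ _)
    hRr hR.coh ((hex _ (cokSeq_shortExact b) hP' hRr hcb).2.1 hKP (hsmall _ hcb hsb))

lemma isZero_idealMul (J : X.IdealSheafData) (T : X.Modules) (hT : ClSub.KilledByIdeal J T) :
    Dual3.idealMulι J T = 0 := by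
  have := ClSubLib.isIso_unit J.subschemeι T (by rwa [Scheme.IdealSheafData.ker_subschemeι])
  exact (cancel_mono ((Scheme.Modules.pullbackPushforwardAdjunction J.subschemeι).unit.app T)).1
    ((kernel.condition _).trans zero_comp.symm)

/-- S9522 -/
theorem extension_roots [IsNoetherian X] (P : X.Modules → Prop)
    (hP : ∀ M N : X.Modules, Nonempty (M ≅ N) → P M → P N) (h₀ : ∀ M : X.Modules, IsZero M → P M)
    (B : Closeds X)
    (h₁ : ∀ S : ShortComplex X.Modules, S.ShortExact → Coh.IsCoh S.X₁ → Coh.IsCoh S.X₂ → Coh.IsCoh S.X₃ →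
      P S.X₁ → P S.X₃ → P S.X₂)
    (h₂ : ∀ (F : X.Modules) (r : ℕ), Coh.IsCoh F → 1 ≤ r → P (∐ fun _ : Fin r => F) → P F)
    (h₃ : ∀ ξ ∈ B, (∀ R : X.Modules, IsPiece ξ R → P R) ∨ ∃ G : X.Modules, Coh.IsCoh G ∧
      CohB1.support G ⊆ closure {ξ} ∧ ξ ∈ CohB1.support G ∧
      (∀ a ∈ IsLocalRing.maximalIdeal (X.presheaf.stalk ξ), ∀ m : G.presheaf.stalk ξ, a • m = 0) ∧
      ∀ J : X.IdealSheafData, ξ ∉ (J.support : Set X) →
        ∃ (G' : X.Modules) (ι' : G' ⟶ (Dual3.idealMul J).obj G), Mono ι' ∧ Coh.IsQCoh G' ∧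
          Function.Surjective (stalkHom (ι' ≫ Dual3.idealMulι J G) ξ) ∧ P G')
    (M : X.Modules) (hM : Coh.IsCoh M) (hMB : CohB1.support M ⊆ B) : P M := by
  refine dev_core P h₀ B (fun S hS a b c _ => h₁ S hS a b c) (fun ξ hξ hsmall R hR => ?_) M hM hMB
  rcases h₃ ξ hξ with h | ⟨G, hG, hs, hm, hk, hJ⟩
  · exact h R hR
  obtain ⟨r, P', a, b, hr, hamono, hbmono, hP', hsa, hsb⟩ := exists_power G hG hs hm hk hR
  have hca := isCoh_cokernel hP'.1 hG a
  let J := ClSubLib.annIdeal (cokernel a) hca.1 hca.2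
  have hJs : ξ ∉ (J.support : Set X) := by
    rw [← Scheme.IdealSheafData.range_subschemeι, ClSubLib.range_annIdeal]
    exact hsa.2
  obtain ⟨G', ι', hι', hq', hsurj, hPG'⟩ := hJ J hJs
  let q : G' ⟶ G := ι' ≫ Dual3.idealMulι J G
  have hq : q ≫ cokernel.π a = 0 := by
    show (ι' ≫ Dual3.idealMulι J G) ≫ cokernel.π a = 0
    rw [Category.assoc, ← Dual3.idealMul_map_ι, isZero_idealMul J _ (ClSubLib.killedBy_annIdeal _ hca.1 hca.2),
      comp_zero, comp_zero]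
  obtain ⟨l, hl⟩ : ∃ l : G' ⟶ P', l ≫ a = q :=
    ⟨_, (cokSeq_shortExact a).fIsKernel.fac (KernelFork.ofι q hq) WalkingParallelPair.zero⟩
  have : Mono q := mono_comp _ _
  have : Mono l := mono_of_mono_fac hl
  have hRr := isCoh_biproduct (fun _ : Fin r => R) fun _ => hR.coh
  have : Mono (l ≫ b) := mono_comp _ _
  have hG' : Coh.IsCoh G' := isCoh_of_mono q hG hq'
  have hsurj' : Function.Surjective (stalkHom (l ≫ b) ξ) := fun t => by
    obtain ⟨m, hm'⟩ := stalk_surjective_of_isSmall b hsb t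
    obtain ⟨g, hg⟩ := hsurj (stalkHom a ξ m)
    refine ⟨g, ?_⟩
    rw [stalkHom_comp, ← hm']
    refine congrArg _ (stalkHom_injective a ξ ?_)
    rw [← stalkHom_comp, hl, ← hg]
  have hsupp : CohB1.support (⨁ fun _ : Fin r => R) ⊆ closure {ξ} := by
    rw [ClSubLib.support_shortExact _ (cokSeq_shortExact b)]
    exact Set.union_subset ((support_subset_of_mono a).trans hs) hsb.1
  have hsm := isSmall_cokernel (l ≫ b) hsupp hsurj'
  have hcb := isCoh_cokernel hG'.1 hRr (l ≫ b)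
  exact h₂ R r hR.coh hr (hP _ _ ⟨biproduct.isoCoproduct _⟩
    (h₁ _ (cokSeq_shortExact (l ≫ b)) hG' hRr hcb hPG' (hsmall _ hcb hsm)))

end Groth.Agent.Devissage
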