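import Groth.Agent.Devissage.Piece
import Groth.Agent.RPushQC.Trunc
import Groth.Agent.QC.Coherent

/-!
Coherent modules on Noetherian schemes are filtered by pieces.
-/

set_option autoImplicit false
set_option backward.isDefEq.respectTransparency false

universe u

open CategoryTheory CategoryTheory.Limits AlgebraicGeometry TopologicalSpace Opposite

noncomputable section

namespace Groth.Agent.Devissage

open Groth.Agent.QC Groth.Agent.WeakAssLib

variable {X : Scheme.{u}}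

lemma isZero_of_support {M : X.Modules} (h : CohB1.support M = ∅) : IsZero M :=
  (IsZero.iff_id_eq_zero M).2 (Scheme.Modules.hom_ext _ _ fun U => by
    ext s
    exact ext_germ M _ fun x hx => germ_eq_zero_of_notMem hx _ (h ▸ Set.notMem_empty x))

lemma support_of_isZero {M : X.Modules} (h : IsZero M) : CohB1.support M = ∅ :=
  Set.eq_empty_of_forall_notMem fun x => (ClSubLib.notMem_support_iff_isZero M x).2
    ((DerSch.stalkFunctor X x).map_isZero h)

set_option maxHeartbeats 1600000 in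
/-- A nonzero coherent module has a piece as a submodule. -/
theorem exists_piece_sub [IsNoetherian X] (Q : X.Modules) (hQ : Coh.IsCoh Q) (h0 : ¬ IsZero Q) :
    ∃ (ξ : X) (R : X.Modules) (j : R ⟶ Q), Mono j ∧ IsPiece ξ R ∧ ξ ∈ CohB1.support Q := by
  classical
  have hnon : {ξ : X | Curv2.IsWeakAssPoint Q ξ}.Nonempty := by
    obtain ⟨x, hx⟩ := Set.nonempty_iff_ne_empty.2 fun h => h0 (isZero_of_support h)
    have := not_subsingleton_iff_nontrivial.1 (show ¬ Subsingleton (Q.presheaf.stalk x) from hx)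
    obtain ⟨m, hm⟩ := exists_ne (0 : Q.presheaf.stalk x)
    obtain ⟨W, hxW, s, rfl⟩ := Q.presheaf.exists_germ_eq (x := x) m
    obtain ⟨y, -, -, hy, -⟩ := exists_weakAss hQ.1 hxW s hm
    exact ⟨y, hy⟩
  obtain ⟨_, ⟨ξ, hξ, rfl⟩, hmin⟩ := (wellFounded_lt (α := Closeds X)).has_min
    ((fun ξ : X => (⟨closure {ξ}, isClosed_closure⟩ : Closeds X)) '' {ξ | Curv2.IsWeakAssPoint Q ξ})
    (hnon.image _)
  have huniq : ∀ y : X, Curv2.IsWeakAssPoint Q y → ξ ⤳ y → y = ξ := fun y hy hs => by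
    have hle : (⟨closure {y}, isClosed_closure⟩ : Closeds X) ≤ ⟨closure {ξ}, isClosed_closure⟩ :=
      (closure_minimal (Set.singleton_subset_iff.2 (specializes_iff_mem_closure.1 hs)) isClosed_closure :
        closure {y} ⊆ closure {ξ})
    rcases lt_or_eq_of_le hle with h | h
    · exact absurd h (hmin _ ⟨y, hy, rfl⟩)
    · have h' : closure ({y} : Set X) = closure {ξ} := congrArg Closeds.carrier h
      exact ((specializes_iff_mem_closure.2 (h'.symm ▸ subset_closure rfl)).antisymm hs).eq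
  obtain ⟨W₀, hW₀, hξW, -⟩ := exists_isAffineOpen_mem_and_subset (X := X) (U := ⊤) (trivial : ξ ∈ (⊤ : X.Opens))
  have : IsNoetherianRing Γ(X, W₀) := IsLocallyNoetherian.component_noetherian ⟨W₀, hW₀⟩
  have hloc := isLoc_of_isQCoh hW₀ (hM := hQ.1)
  set p := hW₀.primeIdealOf ⟨ξ, hξW⟩
  obtain ⟨s₀, hs₀⟩ := (isWeakAssPoint_iff hW₀ hloc hξW).1 hξ
  obtain ⟨s, hs⟩ : ∃ s : Γ(Q, W₀), ∀ c : Γ(X, W₀), c • s = 0 ↔ c ∈ p.asIdeal := by
    have hs' : p.asIdeal ∈ Ideal.minimalPrimes (Submodule.colon (⊥ : Submodule Γ(X, W₀) Γ(Q, W₀)) {s₀}) := by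
      convert hs₀ using 2
      ext r
      simp [Submodule.mem_colon_singleton]
    obtain ⟨t, ht⟩ := Submodule.exists_eq_colon_of_mem_minimalPrimes hs'
    exact ⟨t, fun c => by rw [ht, Submodule.mem_colon_singleton, Submodule.mem_bot]⟩
  have hξs : mgerm Q hξW s ≠ 0 := fun h => by
    obtain ⟨c, hc, hcs⟩ := (germ_eq_zero_iff hW₀ hloc hξW s).1 h
    exact hc ((hs c).1 hcs)
  have hspec : ∀ (x : X) (hx : x ∈ W₀), mgerm Q hx s ≠ 0 → ξ ⤳ x := fun x hx hne => by
    have hle : p.asIdeal ≤ (hW₀.primeIdealOf ⟨x, hx⟩).asIdeal := fun c hc => by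
      by_contra hcx
      exact hne ((germ_eq_zero_iff hW₀ hloc hx s).2 ⟨c, hcx, (hs c).2 hc⟩)
    have h1 := ((PrimeSpectrum.le_iff_specializes p (hW₀.primeIdealOf ⟨x, hx⟩)).1 hle).map hW₀.fromSpec.continuous
    have e1 : hW₀.fromSpec p = ξ := hW₀.fromSpec_primeIdealOf ⟨ξ, hξW⟩
    have e2 : hW₀.fromSpec (hW₀.primeIdealOf ⟨x, hx⟩) = x := hW₀.fromSpec_primeIdealOf ⟨x, hx⟩
    rwa [e1, e2] at h1
  let O : X.Opens := ⟨(closure {ξ})ᶜ, isClosed_closure.isOpen_compl⟩
  let U : X.Opens := W₀ ⊔ O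
  obtain ⟨s', hs'W, hs'O⟩ := RPushQC.glue Q (T := U) (R := W₀ ⊓ O) (le_sup_left : W₀ ≤ U) (le_sup_right : O ≤ U)
    inf_le_left inf_le_right le_rfl le_rfl s 0 (by
      rw [map_zero]
      refine ext_germ Q _ fun x hx => ?_
      rw [mgerm_res Q (inf_le_left : W₀ ⊓ O ≤ W₀) hx s]
      by_contra hne
      exact hx.2 (specializes_iff_mem_closure.1 (hspec x hx.1 hne)))
  have gW : ∀ (x : X) (hx : x ∈ W₀), mgerm Q (show x ∈ U from Or.inl hx) s' = mgerm Q hx s := fun x hx => by
    rw [← hs'W, mgerm_res]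
  have gO : ∀ (x : X) (hx : x ∈ O), mgerm Q (show x ∈ U from Or.inr hx) s' = 0 := fun x hx => by
    rw [← mgerm_res Q (le_sup_right : O ≤ U) hx s', hs'O, map_zero]
  have hξU : ξ ∈ U := Or.inl hξW
  have hξs' : mgerm Q hξU s' ≠ 0 := (gW ξ hξW).symm ▸ hξs
  have hkill : ∀ {V : X.Opens} (a : Γ(X, V)), (∀ h : ξ ∈ V, ¬ IsUnit ((X.presheaf.germ V ξ h).hom a)) →
      ∀ (x : X) (hx : x ∈ V) (hxU : x ∈ U), (X.presheaf.germ V x hx).hom a • mgerm Q hxU s' = 0 := by
    intro V a ha x hxV hxU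
    rcases hxU with hxW | hxO
    · rw [gW x hxW]
      by_cases hne : mgerm Q hxW s = 0
      · rw [hne, smul_zero]
      obtain ⟨f, hf, hxf⟩ := hW₀.exists_basicOpen_le (V := V) ⟨x, hxV⟩ hxW
      have hξD : ξ ∈ X.basicOpen f := (hspec x hxW hne).mem_open (X.basicOpen f).2 hxf
      have := hW₀.isLocalization_basicOpen f
      obtain ⟨k, b, hb⟩ := IsLocalization.Away.surj f (resO X hf a)
      have hb' : resO X hf a * resO X (X.basicOpen_le f) f ^ k = resO X (X.basicOpen_le f) b := hb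
      have hbp : b ∈ p.asIdeal := by
        by_contra hbp
        have h1 : IsUnit ((X.presheaf.germ (X.basicOpen f) ξ hξD).hom (resO X (X.basicOpen_le f) b)) := by
          have := isUnit_germ hW₀ hξW hbp
          rwa [← X.presheaf.germ_res_apply (homOfLE (X.basicOpen_le f)) ξ hξD b] at this
        rw [← hb', map_mul] at h1
        refine ha (hf hξD) ?_
        have h2 := isUnit_of_mul_isUnit_left h1
        rwa [X.presheaf.germ_res_apply (homOfLE hf) ξ hξD a] at h2
      have h3 : mgerm Q hxf (resO X (X.basicOpen_le f) b • res Q (X.basicOpen_le f) s) = 0 := by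
        rw [← res_smul, (hs b).2 hbp, map_zero, map_zero]
      rw [← hb', mgerm_smul, mgerm_res Q (X.basicOpen_le f) hxf s, map_mul, mul_comm, mul_smul, map_pow] at h3
      have hu : IsUnit ((X.presheaf.germ (X.basicOpen f) x hxf).hom (resO X (X.basicOpen_le f) f)) := by
        rw [X.presheaf.germ_res_apply (homOfLE (X.basicOpen_le f)) x hxf f]
        exact (X.mem_basicOpen f x hxW).1 hxf
      have h4 := (hu.pow k).smul_eq_zero.1 h3
      rwa [X.presheaf.germ_res_apply (homOfLE hf) x hxf a] at h4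
    · rw [gO x hxO, smul_zero]
  have himg : ∀ V : X.Opens, U.ι ''ᵁ U.ι ⁻¹ᵁ V = U ⊓ V := image_preimage_ι U
  let C := (Scheme.Modules.pushforward U.ι).obj (Q.restrict U.ι)
  have hle : U.ι ''ᵁ U.ι ⁻¹ᵁ ⊤ ≤ U := by rw [himg]; exact inf_le_left
  let e : Γ(C, ⊤) := res Q hle s'
  let σ := GrT.homOfSection C e
  have hσ : ∀ (V : X.Opens) (a : Γ(X, V)) (x : X) (hx : x ∈ U.ι ''ᵁ U.ι ⁻¹ᵁ V) (hxU : x ∈ U) (hxV : x ∈ V),
      mgerm Q hx (σ.app V a) = (X.presheaf.germ V x hxV).hom a • mgerm Q hxU s' := by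
    intro V a x hx hxU hxV
    have h1 : σ.app V a = resO X (U.ι.image_preimage_le V) a • res Q (RPushQC.e_map U le_top) e := by
      exact (GrT.homOfSection_app C e V a).trans (RPushQC.e_smul Q U V a _)
    rw [h1, mgerm_smul, mgerm_res, mgerm_res, X.presheaf.germ_res_apply (homOfLE (U.ι.image_preimage_le V)) x hx a]
  have hσ0 : kernel.ι (η ξ) ≫ σ = 0 := Scheme.Modules.hom_ext _ _ fun V => by
    ext z
    show σ.app V ((kernel.ι (η ξ)).app V z) = (0 : Γ(C, V))
    refine ext_germ Q (U := U.ι ''ᵁ U.ι ⁻¹ᵁ V) (σ.app V ((kernel.ι (η ξ)).app V z)) fun x hx => ?_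
    have hx' : x ∈ U ⊓ V := himg V ▸ hx
    refine (hσ V _ x hx hx'.1 hx'.2).trans ?_
    exact hkill _ ((η_eq_zero_iff ξ _).1 ((mem_range_kernel_app (η ξ) V _).1 ⟨z, rfl⟩)) x hx'.2 hx'.1
  let T := ShortComplex.mk (kernel.ι (η ξ)) (η ξ) (kernel.condition _)
  have hT : T.Exact := T.exact_of_f_is_kernel (kernelIsKernel _)
  have hTe : Epi T.g := epi_η ξ
  let φ : A ξ ⟶ C := hT.desc σ hσ0
  have hφ : η ξ ≫ φ = σ := hT.g_desc σ hσ0
  have hmono : Mono φ := (mono_iff_app_injective φ).2 fun W => (injective_iff_map_eq_zero _).2 fun t ht => by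
    refine section_eq_of_locally fun x hx => ?_
    obtain ⟨V, hVW, a, hxV, ha⟩ := exists_eta_lift ξ x hx t
    refine ⟨V, hVW, hxV, ?_⟩
    rw [map_zero, ← ha, (η_eq_zero_iff ξ a).2]
    intro hξV hu
    have hξ' : ξ ∈ U.ι ''ᵁ U.ι ⁻¹ᵁ V := by rw [himg]; exact ⟨hξU, hξV⟩
    have h1 : σ.app V a = 0 := by
      rw [← hφ]
      show φ.app V ((η ξ).app V a) = 0
      rw [ha, ← app_res, ht, map_zero]
    have h2 := hσ V a ξ hξ' hξU hξV
    rw [h1] at h2
    exact hξs' (hu.smul_eq_zero.1 (h2.symm.trans (map_zero _)))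
  let u := unitE U Q
  have hu : Mono u := (mono_iff_app_injective u).2 fun W => (injective_iff_map_eq_zero _).2 fun t ht => by
    refine eq_zero_of_forall hQ.1 t fun y hy hya => ?_
    by_cases hyU : y ∈ U
    · exact (unitE_eq_zero_iff U Q t).1 ht y hy hyU
    · have hyc : ξ ⤳ y := specializes_iff_mem_closure.2 (not_not.1 fun h => hyU (Or.inr h))
      exact absurd ((huniq y hya hyc).symm ▸ hξU : y ∈ U) hyU
  have h2 := mono_pbFst u φ
  have h3 := mono_pbSnd u φ
  refine ⟨ξ, pb u φ, pbFst u φ, h2,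
    ⟨isCoh_of_mono (pbSnd u φ) (isCoh_A ξ) (isQCoh_pb hQ.1 (isCoh_A ξ).1 (isQCoh_pushE hQ.1 U) u φ),
      ⟨pbSnd u φ, h3⟩, ?_⟩, mem_support_of_germ hξU hξs'⟩
  obtain ⟨z, hz, -⟩ := exists_pb_section u φ U s' ((η ξ).app U (1 : Γ(X, U))) (by
    show u.app U s' = (η ξ ≫ φ).app U (1 : Γ(X, U))
    rw [hφ]
    refine Eq.trans ?_ ((GrT.homOfSection_app C e U 1).trans (one_smul Γ(X, U) _)).symm
    exact (res_res Q (RPushQC.e_map U le_top) hle s').symm)
  refine mem_support_of_germ hξU (s := z) fun hz0 => hξs' ?_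
  rw [← hz, ← stalkHom_germ, hz0, map_zero]

/-- Filtrations by pieces. -/
inductive Filt : X.Modules → Prop
  | zero {M : X.Modules} : IsZero M → Filt M
  | step {N M R : X.Modules} {f : N ⟶ M} {g : M ⟶ R} {w : f ≫ g = 0} {ξ : X} :
      (ShortComplex.mk f g w).ShortExact → Filt N → Coh.IsCoh N → Coh.IsCoh M → IsPiece ξ R → Filt M

lemma Filt.of_iso {M M' : X.Modules} (h : Filt M) (e : M ≅ M') : Filt M' := by
  cases h with
  | zero h => exact .zero (h.of_iso e.symm)
  | @step N _ R f g w ξ hS hN hNc hM hR =>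
    refine .step (f := f ≫ e.hom) (g := e.inv ≫ g) (w := by simp [w]) ?_ hN hNc
      ⟨isQCoh_of_iso e hM.1, (isCoh_of_epi hM (isQCoh_of_iso e hM.1) e.hom).2⟩ hR
    exact ShortComplex.shortExact_of_iso
      (ShortComplex.isoMk (S₁ := ShortComplex.mk f g w) (S₂ := ShortComplex.mk (f ≫ e.hom) (e.inv ≫ g) (by simp [w])) (Iso.refl N) e (Iso.refl R) (by simp) (by simp)) hS

theorem filt_of_isCoh [IsNoetherian X] (M : X.Modules) (hM : Coh.IsCoh M) : Filt M := by
  classical
  by_contra hcon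
  let G := {S : Subobject M // Filt (S : X.Modules) ∧ Coh.IsQCoh (S : X.Modules)}
  have hz : Coh.IsQCoh (kernel (𝟙 M)) := isQCoh_kernel hM.1 hM.1 _
  have z0 : IsZero (kernel (𝟙 M)) := isZero_kernel_of_mono _
  let S₀ : G := ⟨Subobject.mk (kernel.ι (𝟙 M)),
    .zero (z0.of_iso (Subobject.underlyingIso _)),
    isQCoh_of_iso (Subobject.underlyingIso _).symm hz⟩
  have next' : ∀ S : G, ∃ S' : G, S.1 < S'.1 := by
    rintro ⟨S, hS, hSq⟩
    have hSc : Coh.IsCoh (S : X.Modules) := isCoh_of_mono S.arrow hM hSq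
    have hq : ¬ IsZero (cokernel S.arrow) := fun h => by
      have : Epi S.arrow := Preadditive.epi_of_cokernel_zero (h.eq_of_tgt _ _)
      have := isIso_of_mono_of_epi S.arrow
      exact hcon (hS.of_iso (asIso S.arrow))
    obtain ⟨ξ, R, j, hj, hR, -⟩ := exists_piece_sub _ (isCoh_cokernel hSq hM S.arrow) hq
    let π := cokernel.π S.arrow
    let N' := pullback π j
    have : Mono (pullback.fst π j) := inferInstance
    have : Epi (pullback.snd π j) := Abelian.epi_pullback_of_epi_f π j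
    let g : (S : X.Modules) ⟶ N' := pullback.lift S.arrow 0 (by simp [π])
    have hg : g ≫ pullback.snd π j = 0 := pullback.lift_snd _ _ _
    have hgf : g ≫ pullback.fst π j = S.arrow := pullback.lift_fst _ _ _
    have hgm : Mono g := mono_of_mono_fac hgf
    have hker := kernelIsKernel π
    have hE : (ShortComplex.mk g (pullback.snd π j) hg).ShortExact := by
      refine { exact := ShortComplex.exact_of_f_is_kernel _ (KernelFork.IsLimit.ofι' _ _ fun {W} k hk => ?_) }
      have hk' : (k ≫ pullback.fst π j) ≫ π = 0 := by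
        rw [Category.assoc, pullback.condition, reassoc_of% hk, zero_comp]
      refine ⟨(Abelian.monoIsKernelOfCokernel _ (cokernelIsCokernel S.arrow)).lift (KernelFork.ofι _ hk'), ?_⟩
      refine pullback.hom_ext ?_ ?_
      · rw [Category.assoc, hgf]
        exact (Abelian.monoIsKernelOfCokernel _ (cokernelIsCokernel S.arrow)).fac _ WalkingParallelPair.zero
      · rw [Category.assoc, hg, comp_zero, hk]
    have hN'q : Coh.IsQCoh N' := CohQC.isQCoh_mid _ hE hSq hR.coh.1
    have hN'c : Coh.IsCoh N' := isCoh_of_mono (pullback.fst π j) hM hN'q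
    let eN := Subobject.underlyingIso (pullback.fst π j)
    refine ⟨⟨Subobject.mk (pullback.fst π j),
      (Filt.step hE hS hSc hN'c hR).of_iso eN.symm, isQCoh_of_iso eN.symm hN'q⟩, ?_⟩
    refine lt_of_le_of_ne (Subobject.le_mk_of_comm g hgf) fun heq => ?_
    have : IsIso g := by
      have e2 : g = (Subobject.isoOfEqMk S (pullback.fst π j) heq).hom :=
        (cancel_mono (pullback.fst π j)).1 (by rw [hgf]; simp)
      rw [e2]; infer_instance
    have hs0 : pullback.snd π j = 0 := (cancel_epi g).1 (by rw [hg, comp_zero])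
    have h0 : IsZero R := IsZero.of_epi_eq_zero _ hs0
    exact (support_of_isZero h0 ▸ hR.mem : ξ ∈ (∅ : Set X))
  choose nxt hnxt using next'
  let seq : ℕ → G := fun n => nxt^[n] S₀
  have hmono : StrictMono fun n => (seq n).1 := strictMono_nat_of_lt_succ fun n => by
    simp only [seq, Function.iterate_succ_apply']
    exact hnxt _
  obtain ⟨n, hn⟩ := acc_subobject hM ⟨fun n => (seq n).1, hmono.monotone⟩ (fun n => (seq n).2.2)
  exact (hmono (Nat.lt_succ_self n)).ne' (hn (n + 1) (Nat.le_succ n))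

end Groth.Agent.Devissage
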