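import Groth.Agent.Devissage.Core

/-!
A coherent module killed at the generic point of its support agrees there with a power of any piece.
-/

set_option autoImplicit false
set_option backward.isDefEq.respectTransparency false

universe u

open CategoryTheory CategoryTheory.Limits AlgebraicGeometry TopologicalSpace Opposite

noncomputable section

namespace Groth.Agent.Devissage

open Groth.Agent.QC Groth.Agent.WeakAssLib

attribute [local instance] Abelian.hasFiniteBiproducts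

variable {X : Scheme.{u}}

lemma stalkHom_comp {F G K : X.Modules} (φ : F ⟶ G) (ψ : G ⟶ K) (x : X) (m : F.presheaf.stalk x) :
    stalkHom (φ ≫ ψ) x m = stalkHom ψ x (stalkHom φ x m) := by
  obtain ⟨W, hW, s, rfl⟩ := F.presheaf.exists_germ_eq (x := x) m
  exact (stalkHom_germ _ hW s).trans ((stalkHom_germ ψ hW _).symm.trans
    (congrArg (stalkHom ψ x) (stalkHom_germ φ hW s).symm))

lemma stalkHom_id (F : X.Modules) (x : X) (m : F.presheaf.stalk x) : stalkHom (𝟙 F) x m = m := by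
  obtain ⟨W, hW, s, rfl⟩ := F.presheaf.exists_germ_eq (x := x) m
  exact stalkHom_germ _ hW s

lemma stalkHom_zero (F G : X.Modules) (x : X) (m : F.presheaf.stalk x) :
    stalkHom (0 : F ⟶ G) x m = 0 := by
  obtain ⟨W, hW, s, rfl⟩ := F.presheaf.exists_germ_eq (x := x) m
  exact (stalkHom_germ _ hW s).trans (map_zero _)

lemma stalkHom_add {F G : X.Modules} (φ ψ : F ⟶ G) (x : X) (m : F.presheaf.stalk x) :
    stalkHom (φ + ψ) x m = stalkHom φ x m + stalkHom ψ x m := by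
  obtain ⟨W, hW, s, rfl⟩ := F.presheaf.exists_germ_eq (x := x) m
  rw [stalkHom_germ, stalkHom_germ, stalkHom_germ, ← map_add]
  rfl

lemma stalkHom_sum {F G : X.Modules} {ι : Type*} (s : Finset ι) (φ : ι → (F ⟶ G)) (x : X)
    (m : F.presheaf.stalk x) : stalkHom (∑ i ∈ s, φ i) x m = ∑ i ∈ s, stalkHom (φ i) x m := by
  classical
  induction s using Finset.induction_on with
  | empty => simp [stalkHom_zero]
  | insert a s ha ih => rw [Finset.sum_insert ha, Finset.sum_insert ha, stalkHom_add, ih]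

/-- Sections of `A ξ` with vanishing germ at `ξ` vanish. -/
lemma A_sep (ξ : X) {W : X.Opens} (t : Γ(A ξ, W)) (h : ∀ hξ : ξ ∈ W, mgerm (A ξ) hξ t = 0) : t = 0 := by
  refine section_eq_of_locally fun x hx => ?_
  obtain ⟨V, hVW, a, hxV, ha⟩ := exists_eta_lift ξ x hx t
  refine ⟨V, hVW, hxV, ?_⟩
  rw [map_zero, ← ha, (η_eq_zero_iff ξ a).2]
  intro hξV hu
  have h0 : stalkHom (η ξ) ξ (mgerm (Coh.structureModule X) hξV a) = 0 := by
    rw [stalkHom_germ, ha, mgerm_res]
    exact h _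
  obtain ⟨v, hv⟩ := hu
  have e : stalkHom (η ξ) ξ (mgerm (Coh.structureModule X) hξV (1 : Γ(X, V))) = 0 := by
    have h2 : mgerm (Coh.structureModule X) hξV a =
        (X.presheaf.germ V ξ hξV).hom a • mgerm (Coh.structureModule X) hξV (1 : Γ(X, V)) := by
      rw [← mgerm_smul]
      exact congrArg (mgerm (Coh.structureModule X) hξV) (mul_one a).symm
    rw [h2, stalkHom_smul, ← hv] at h0
    exact v.isUnit.smul_eq_zero.1 h0
  have hne : (η ξ).app V (1 : Γ(X, V)) = 0 → False := fun h1 =>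
    (η_eq_zero_iff ξ (1 : Γ(X, V))).1 h1 hξV (by rw [map_one]; exact isUnit_one)
  rw [stalkHom_germ] at e
  obtain ⟨V', hV', iU, iV, he⟩ := TopCat.Presheaf.germ_eq (A ξ).presheaf (U := V) (V := V) ξ hξV hξV
    ((η ξ).app V (1 : Γ(X, V))) 0 (e.trans (map_zero _).symm)
  refine absurd ?_ ((not_congr (η_eq_zero_iff ξ (1 : Γ(X, V')))).2 fun h1 => h1 hV' (by rw [map_one]; exact isUnit_one))
  have h1 := app_res (η ξ) iU.le (1 : Γ(X, V))
  rw [show res (Coh.structureModule X) iU.le (1 : Γ(X, V)) = (1 : Γ(X, V')) from map_one (resO X iU.le)] at h1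
  rw [← h1]
  exact he.trans (map_zero _)

lemma isQCoh_biproduct {ι : Type} [Fintype ι] (N : ι → X.Modules) (hN : ∀ i, Coh.IsQCoh (N i)) :
    Coh.IsQCoh (⨁ N) :=
  QC.isQCoh_of_iso (biproduct.isoCoproduct N ≪≫
      (Sigma.whiskerEquiv (g := fun k : ULift.{u} ι => N k.down) Equiv.ulift.symm
        (fun _ => Iso.refl _))).symm (QC.isQCoh_colimit (Discrete.functor _) fun j => hN j.as.down)

lemma isCoh_biproduct {ι : Type} [Fintype ι] (N : ι → X.Modules) (hN : ∀ i, Coh.IsCoh (N i)) :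
    Coh.IsCoh (⨁ N) := by
  refine isCoh_iff_finite_sections.2 ⟨isQCoh_biproduct N fun i => (hN i).1, fun U => ?_⟩
  have := fun i => (isCoh_iff_finite_sections.1 (hN i)).2 U
  let L : (∀ i, Γ(N i, U.1)) →ₗ[Γ(X, U.1)] Γ(⨁ N, U.1) :=
    ∑ i, (appₗ (biproduct.ι N i) U.1).comp (LinearMap.proj i)
  refine Module.Finite.of_surjective L fun t => ⟨fun i => (biproduct.π N i).app U.1 t, ?_⟩
  rw [LinearMap.sum_apply]
  let φ : (⨁ N ⟶ ⨁ N) →+ Γ(⨁ N, U.1) :=
    AddMonoidHom.mk' (fun f => f.app U.1 t) fun a b => rfl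
  have h := (map_sum φ (fun i => biproduct.π N i ≫ biproduct.ι N i) Finset.univ).symm.trans
    (congrArg φ biproduct.total)
  exact h

/-- Lifting sections killed by the prime of `ξ` to maps out of `A ξ`. -/
theorem exists_desc {ξ : X} {H : X.Modules} (U : X.Opens) (s : Γ(H, U))
    (hkill : ∀ {V : X.Opens} (a : Γ(X, V)), (∀ h : ξ ∈ V, ¬ IsUnit ((X.presheaf.germ V ξ h).hom a)) →
      ∀ (x : X) (hx : x ∈ V) (hxU : x ∈ U), (X.presheaf.germ V x hx).hom a • mgerm H hxU s = 0) :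
    ∃ φ : A ξ ⟶ (Scheme.Modules.pushforward U.ι).obj (H.restrict U.ι), ∀ (V : X.Opens) (hξ : ξ ∈ V)
      (a : Γ(X, V)) (hξU : ξ ∈ U), stalkHom φ ξ (stalkHom (η ξ) ξ (mgerm (Coh.structureModule X) hξ a)) =
        (X.presheaf.germ V ξ hξ).hom a • stalkHom (unitE U H) ξ (mgerm H hξU s) := by
  have himg : ∀ V : X.Opens, U.ι ''ᵁ U.ι ⁻¹ᵁ V = U ⊓ V := image_preimage_ι U
  let C := (Scheme.Modules.pushforward U.ι).obj (H.restrict U.ι)
  have hle : U.ι ''ᵁ U.ι ⁻¹ᵁ ⊤ ≤ U := by rw [himg]; exact inf_le_left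
  let e : Γ(C, ⊤) := res H hle s
  let σ := GrT.homOfSection C e
  have hσ0 : kernel.ι (η ξ) ≫ σ = 0 := Scheme.Modules.hom_ext _ _ fun V => by
    ext z
    show σ.app V ((kernel.ι (η ξ)).app V z) = (0 : Γ(C, V))
    refine ext_germ H (U := U.ι ''ᵁ U.ι ⁻¹ᵁ V) (σ.app V ((kernel.ι (η ξ)).app V z)) fun x hx => ?_
    have hx' : x ∈ U ⊓ V := himg V ▸ hx
    rw [show σ.app V ((kernel.ι (η ξ)).app V z) = resO X (U.ι.image_preimage_le V)
        ((kernel.ι (η ξ)).app V z) • res H (RPushQC.e_map U le_top) e from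
      (GrT.homOfSection_app C e V _).trans (RPushQC.e_smul H U V _ _),
      mgerm_smul, mgerm_res, mgerm_res,
      X.presheaf.germ_res_apply (homOfLE (U.ι.image_preimage_le V)) x hx]
    exact hkill _ ((η_eq_zero_iff ξ _).1 ((mem_range_kernel_app (η ξ) V _).1 ⟨z, rfl⟩)) x hx'.2 hx'.1
  let T := ShortComplex.mk (kernel.ι (η ξ)) (η ξ) (kernel.condition _)
  have hT : T.Exact := T.exact_of_f_is_kernel (kernelIsKernel _)
  have hTe : Epi T.g := epi_η ξ
  refine ⟨hT.desc σ hσ0, fun V hξ a hξU => ?_⟩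
  rw [← stalkHom_comp, show η ξ ≫ hT.desc σ hσ0 = σ from hT.g_desc σ hσ0, stalkHom_germ,
    show σ.app V a = a • res C le_top e from GrT.homOfSection_app C e V a, mgerm_smul]
  congr 1
  rw [stalkHom_germ, mgerm_res C (le_top : V ≤ ⊤) hξ e,
    ← mgerm_res C (le_top : U ≤ ⊤) hξU e]
  refine congrArg (mgerm C hξU) ?_
  exact res_res H (RPushQC.e_map U le_top) hle s

set_option maxHeartbeats 1000000 in
theorem exists_power [IsNoetherian X] {ξ : X} (H : X.Modules) (hH : Coh.IsCoh H)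
    (hsupp : CohB1.support H ⊆ closure {ξ}) (hmem : ξ ∈ CohB1.support H)
    (hk : ∀ a ∈ IsLocalRing.maximalIdeal (X.presheaf.stalk ξ), ∀ m : H.presheaf.stalk ξ, a • m = 0)
    {R : X.Modules} (hR : IsPiece ξ R) :
    ∃ (r : ℕ) (P' : X.Modules) (a : P' ⟶ H) (b : P' ⟶ ⨁ fun _ : Fin r => R), 1 ≤ r ∧ Mono a ∧ Mono b ∧
      Coh.IsCoh P' ∧ IsSmall ξ (cokernel a) ∧ IsSmall ξ (cokernel b) := by
  classical
  obtain ⟨W₀, hW₀, hξW, -⟩ := exists_isAffineOpen_mem_and_subset (X := X) (U := ⊤) (trivial : ξ ∈ (⊤ : X.Opens))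
  have : IsNoetherianRing Γ(X, W₀) := IsLocallyNoetherian.component_noetherian ⟨W₀, hW₀⟩
  have := (isCoh_iff_finite_sections.1 hH).2 ⟨W₀, hW₀⟩
  have hloc := isLoc_of_isQCoh hW₀ (hM := hH.1)
  set p := hW₀.primeIdealOf ⟨ξ, hξW⟩
  let g₀ : Γ(H, W₀) → H.presheaf.stalk ξ := fun s => mgerm H hξW s
  have hgen : ∃ T : Finset Γ(H, W₀), Submodule.span (X.presheaf.stalk ξ) (g₀ '' (T : Set Γ(H, W₀))) = ⊤ := by
    obtain ⟨T, hT⟩ := Module.Finite.fg_top (R := Γ(X, W₀)) (M := Γ(H, W₀))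
    refine ⟨T, eq_top_iff.2 fun m _ => ?_⟩
    obtain ⟨a, s, ha, has⟩ := exists_germ hW₀ hloc hξW m
    have hs : g₀ s ∈ Submodule.span (X.presheaf.stalk ξ) (g₀ '' (T : Set Γ(H, W₀))) := by
      have : s ∈ Submodule.span Γ(X, W₀) (T : Set Γ(H, W₀)) := hT ▸ trivial
      clear has
      induction this using Submodule.span_induction with
      | mem x hx => exact Submodule.subset_span ⟨x, hx, rfl⟩
      | zero => rw [show g₀ 0 = 0 from map_zero _]; exact zero_mem _
      | add x y _ _ hx hy => rw [show g₀ (x + y) = g₀ x + g₀ y from map_add _ _ _]; exact add_mem hx hy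
      | smul c x _ hx => rw [show g₀ (c • x) = _ from mgerm_smul H hξW c x]; exact Submodule.smul_mem _ _ hx
    obtain ⟨v, hv⟩ := isUnit_germ hW₀ hξW ha
    have e : m = (↑v⁻¹ : X.presheaf.stalk ξ) • g₀ s := by
      show m = (↑v⁻¹ : X.presheaf.stalk ξ) • mgerm H hξW s
      rw [← has, ← hv, smul_smul, Units.inv_mul, one_smul]
    exact e ▸ Submodule.smul_mem _ _ hs
  let r := Nat.find (p := fun n => ∃ T : Finset Γ(H, W₀), T.card = n ∧
    Submodule.span (X.presheaf.stalk ξ) (g₀ '' (T : Set Γ(H, W₀))) = ⊤) ⟨_, hgen.choose, rfl, hgen.choose_spec⟩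
  obtain ⟨T, hTc, hTs⟩ := Nat.find_spec (p := fun n => ∃ T : Finset Γ(H, W₀), T.card = n ∧
    Submodule.span (X.presheaf.stalk ξ) (g₀ '' (T : Set Γ(H, W₀))) = ⊤) ⟨_, hgen.choose, rfl, hgen.choose_spec⟩
  have hTmin : ∀ T' : Finset Γ(H, W₀),
      Submodule.span (X.presheaf.stalk ξ) (g₀ '' (T' : Set Γ(H, W₀))) = ⊤ → r ≤ T'.card := fun T' h' =>
    Nat.find_min' _ ⟨T', rfl, h'⟩
  let eT : T ≃ Fin r := T.equivFinOfCardEq hTc
  let s : Fin r → Γ(H, W₀) := fun k => (eT.symm k).1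
  let g : Fin r → H.presheaf.stalk ξ := fun k => g₀ (s k)
  have hgs : Submodule.span (X.presheaf.stalk ξ) (Set.range g) = ⊤ := by
    rw [← hTs]
    congr 1
    ext m
    constructor
    · rintro ⟨k, rfl⟩; exact ⟨_, (eT.symm k).2, rfl⟩
    · rintro ⟨t, ht, rfl⟩; exact ⟨eT ⟨t, ht⟩, by show g₀ (eT.symm (eT ⟨t, ht⟩)).1 = _; rw [Equiv.symm_apply_apply]⟩
  have hr : 1 ≤ r := by
    by_contra h
    have : IsEmpty (Fin r) := by rw [show r = 0 by omega]; infer_instance
    have h0 : (⊥ : Submodule (X.presheaf.stalk ξ) (H.presheaf.stalk ξ)) = ⊤ := by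
      rw [← hgs, Set.range_eq_empty, Submodule.span_empty]
    exact hmem (subsingleton_of_forall_eq 0 fun m => (Submodule.mem_bot (X.presheaf.stalk ξ)).1 (by rw [h0]; trivial))
  have hind : ∀ c : Fin r → X.presheaf.stalk ξ, ∑ k, c k • g k = 0 → ∀ k, ¬ IsUnit (c k) := by
    intro c hc j hu
    have hj : g j ∈ Submodule.span (X.presheaf.stalk ξ)
        (g₀ '' ((T.erase (eT.symm j).1 : Finset _) : Set Γ(H, W₀))) := by
      obtain ⟨v, hv⟩ := hu
      rw [← Finset.add_sum_erase _ _ (Finset.mem_univ j), ← hv, add_eq_zero_iff_eq_neg] at hc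
      have : g j = (↑v⁻¹ : X.presheaf.stalk ξ) • -∑ k ∈ Finset.univ.erase j, c k • g k := by
        rw [← hc, smul_smul, Units.inv_mul, one_smul]
      rw [this]
      refine Submodule.smul_mem _ _ (Submodule.neg_mem _ (Submodule.sum_mem _ fun k hk => Submodule.smul_mem _ _
        (Submodule.subset_span ⟨(eT.symm k).1, Finset.mem_coe.2 (Finset.mem_erase.2 ⟨fun h => ?_, (eT.symm k).2⟩), rfl⟩)))
      exact (Finset.mem_erase.1 hk).1 (eT.symm.injective (Subtype.ext h))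
    have := hTmin (T.erase (eT.symm j).1) (eq_top_iff.2 (by
      rw [← hgs]
      refine Submodule.span_le.2 ?_
      rintro _ ⟨k, rfl⟩
      by_cases hk : k = j
      · subst hk; exact hj
      · exact Submodule.subset_span ⟨_, Finset.mem_coe.2 (Finset.mem_erase.2
          ⟨fun h => hk (eT.symm.injective (Subtype.ext h)), (eT.symm k).2⟩), rfl⟩))
    have h2 := Finset.card_erase_lt_of_mem (eT.symm j).2
    omega
  obtain ⟨G, hG⟩ := (IsNoetherian.noetherian p.asIdeal : p.asIdeal.FG)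
  have hc : ∀ (a : G) (k : Fin r), ∃ c : Γ(X, W₀), c ∉ p.asIdeal ∧ c • (a.1 • s k) = 0 := fun a k => by
    refine (germ_eq_zero_iff hW₀ hloc hξW _).1 ?_
    rw [mgerm_smul]
    refine hk _ ((IsLocalRing.mem_maximalIdeal _).2 fun hu => ?_) _
    have hmem : ξ ∈ X.basicOpen a.1 := (X.mem_basicOpen a.1 ξ hξW).2 hu
    exact (mem_primeIdealOf hW₀ hξW a.1).1 hmem (hG ▸ Ideal.subset_span a.2 : a.1 ∈ p.asIdeal)
  choose c hcp hc0 using hc
  let d : Γ(X, W₀) := ∏ a, ∏ k, c a k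
  have hdp : d ∉ p.asIdeal := fun h => by
    obtain ⟨a, -, ha⟩ := (Ideal.IsPrime.prod_mem_iff).1 h
    obtain ⟨k, -, hk'⟩ := (Ideal.IsPrime.prod_mem_iff).1 ha
    exact hcp a k hk'
  have hd0 : ∀ (k : Fin r) (b : Γ(X, W₀)), b ∈ p.asIdeal → d • (b • s k) = 0 := fun k b hb => by
    rw [← hG] at hb
    induction hb using Submodule.span_induction with
    | mem x hx =>
      have hdvd : c ⟨x, hx⟩ k ∣ d :=
        dvd_trans (Finset.dvd_prod_of_mem _ (Finset.mem_univ k))
          (Finset.dvd_prod_of_mem (fun a => ∏ k, c a k) (Finset.mem_univ (⟨x, hx⟩ : G)))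
      obtain ⟨e, he⟩ := hdvd
      rw [he, mul_comm, mul_smul, hc0, smul_zero]
    | zero => rw [zero_smul, smul_zero]
    | add x y _ _ hx hy => rw [add_smul, smul_add, hx, hy, add_zero]
    | smul e x _ hx => rw [smul_eq_mul, mul_smul, smul_comm, hx, smul_zero]
  let U : X.Opens := X.basicOpen d
  have hξU : ξ ∈ U := (mem_primeIdealOf hW₀ hξW d).2 hdp
  have hUW : U ≤ W₀ := X.basicOpen_le d
  have hkill : ∀ (k : Fin r) {V : X.Opens} (a : Γ(X, V)),
      (∀ h : ξ ∈ V, ¬ IsUnit ((X.presheaf.germ V ξ h).hom a)) → ∀ (x : X) (hx : x ∈ V) (hxU : x ∈ U),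
      (X.presheaf.germ V x hx).hom a • mgerm H hxU (res H hUW (s k)) = 0 := by
    intro k V a ha x hxV hxU
    rw [mgerm_res]
    by_cases hne : mgerm H (hUW hxU) (s k) = 0
    · rw [hne, smul_zero]
    obtain ⟨f, hf, hxf⟩ := hW₀.exists_basicOpen_le (V := V) ⟨x, hxV⟩ (hUW hxU)
    have hξD : ξ ∈ X.basicOpen f := (specializes_iff_mem_closure.2 (hsupp (mem_support_of_germ _ hne))).mem_open
      (X.basicOpen f).2 hxf
    have := hW₀.isLocalization_basicOpen f
    obtain ⟨n, b, hb⟩ := IsLocalization.Away.surj f (resO X hf a)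
    have hb' : resO X hf a * resO X (X.basicOpen_le f) f ^ n = resO X (X.basicOpen_le f) b := hb
    have hbp : b ∈ p.asIdeal := by
      by_contra hbp
      have h1 : IsUnit ((X.presheaf.germ (X.basicOpen f) ξ hξD).hom (resO X (X.basicOpen_le f) b)) := by
        have := isUnit_germ hW₀ hξW hbp
        rwa [← X.presheaf.germ_res_apply (homOfLE (X.basicOpen_le f)) ξ hξD b] at this
      rw [← hb', map_mul] at h1
      refine ha (hf hξD) ?_
      have h2 := isUnit_of_mul_isUnit_left h1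
      rwa [X.presheaf.germ_res_apply (homOfLE hf) ξ hξD a] at h2
    have h0 := congrArg (mgerm H (hUW hxU)) (hd0 k b hbp)
    rw [mgerm_smul, mgerm_smul, map_zero] at h0
    have h3 := ((X.mem_basicOpen d x (hUW hxU)).1 hxU).smul_eq_zero.1 h0
    have h4 : (X.presheaf.germ W₀ x (hUW hxU)).hom b =
        (X.presheaf.germ W₀ x (hUW hxU)).hom f ^ n * (X.presheaf.germ V x hxV).hom a := by
      rw [← X.presheaf.germ_res_apply (homOfLE (X.basicOpen_le f)) x hxf b,
        ← X.presheaf.germ_res_apply (homOfLE (X.basicOpen_le f)) x hxf f,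
        ← X.presheaf.germ_res_apply (homOfLE hf) x hxf a]
      exact (congrArg _ hb'.symm).trans (by rw [map_mul, map_pow, mul_comm])
    rw [h4, mul_smul] at h3
    exact (((X.mem_basicOpen f x (hUW hxU)).1 hxf).pow n).smul_eq_zero.1 h3
  choose φ hφ using fun k => exists_desc U (res H hUW (s k)) (hkill k)
  let C := (Scheme.Modules.pushforward U.ι).obj (H.restrict U.ι)
  let uH := unitE U H
  let Φ : (⨁ fun _ : Fin r => A ξ) ⟶ C := biproduct.desc φ
  have hgerm : ∀ k, mgerm H hξU (res H hUW (s k)) = g k := fun k => mgerm_res H hUW hξU (s k)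
  have hφ' : ∀ (k : Fin r) (c : (Coh.structureModule X).presheaf.stalk ξ),
      ∃ c' : X.presheaf.stalk ξ, (¬ IsUnit c' → stalkHom (η ξ) ξ c = 0) ∧
        stalkHom (φ k) ξ (stalkHom (η ξ) ξ c) = c' • stalkHom uH ξ (g k) := fun k c => by
    obtain ⟨V, hV, a, rfl⟩ := (Coh.structureModule X).presheaf.exists_germ_eq (x := ξ) c
    refine ⟨(X.presheaf.germ V ξ hV).hom a, fun hn => ?_, ?_⟩
    · rw [stalkHom_germ, (η_eq_zero_iff ξ a).2 fun _ => hn, map_zero]
    · rw [← hgerm k]; exact hφ k V hV a hξU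
  have hdec : ∀ (N : Fin r → X.Modules) (t : (⨁ N).presheaf.stalk ξ),
      t = ∑ k, stalkHom (biproduct.ι N k) ξ (stalkHom (biproduct.π N k) ξ t) := fun N t => by
    conv_lhs => rw [← stalkHom_id (⨁ N) ξ t, ← biproduct.total (f := N)]
    rw [stalkHom_sum]
    exact Finset.sum_congr rfl fun k _ => stalkHom_comp _ _ ξ t
  have huinj : Function.Injective (stalkHom uH ξ) := (injective_iff_map_eq_zero _).2 fun m hm => by
    obtain ⟨W, hW, t, rfl⟩ := H.presheaf.exists_germ_eq (x := ξ) m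
    have h1 := (stalkHom_germ uH hW t).symm.trans hm
    obtain ⟨W', hW', iU, iV, he⟩ := TopCat.Presheaf.germ_eq C.presheaf (U := W) (V := W) ξ hW hW (uH.app W t) 0
      (h1.trans (map_zero _).symm)
    rw [← mgerm_res H iU.le hW' t]
    exact (unitE_eq_zero_iff U H _).1 ((app_res uH iU.le t).symm.trans (he.trans (map_zero _))) ξ hW' hξU
  have hΦinj : ∀ t : (⨁ fun _ : Fin r => A ξ).presheaf.stalk ξ, stalkHom Φ ξ t = 0 → t = 0 := by
    intro t ht
    choose c hc using fun k => stalk_η_surjective ξ ξ (stalkHom (biproduct.π (fun _ : Fin r => A ξ) k) ξ t)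
    choose c' hc0' hc' using fun k => hφ' k (c k)
    have h1 : ∑ k, c' k • g k = 0 := huinj (by
      rw [map_zero, map_sum, ← ht, hdec _ t, map_sum]
      refine Finset.sum_congr rfl fun k _ => ?_
      rw [stalkHom_smul, ← stalkHom_comp (biproduct.ι _ k) Φ, biproduct.ι_desc, ← hc k]
      exact (hc' k).symm)
    rw [hdec _ t]
    exact Finset.sum_eq_zero fun k _ => by rw [← hc k, hc0' k (hind c' h1 k), map_zero]
  have hΦ : Mono Φ := (mono_iff_app_injective Φ).2 fun W => (injective_iff_map_eq_zero _).2 fun t ht => by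
    have hπ : ∀ k, (biproduct.π (fun _ : Fin r => A ξ) k).app W t = 0 := fun k => A_sep ξ _ fun hξW' => by
      rw [← stalkHom_germ, hΦinj (mgerm _ hξW' t) (by rw [stalkHom_germ, ht, map_zero]), map_zero]
    let φ' : ((⨁ fun _ : Fin r => A ξ) ⟶ ⨁ fun _ : Fin r => A ξ) →+ Γ(⨁ fun _ : Fin r => A ξ, W) :=
      AddMonoidHom.mk' (fun f => f.app W t) fun a b => rfl
    have h := (map_sum φ' (fun k => biproduct.π (fun _ : Fin r => A ξ) k ≫ biproduct.ι (fun _ : Fin r => A ξ) k) Finset.univ).symm.trans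
      (congrArg φ' (biproduct.total (f := fun _ : Fin r => A ξ)))
    refine Eq.trans h.symm (Finset.sum_eq_zero fun k _ => ?_)
    show (biproduct.ι (fun _ : Fin r => A ξ) k).app W ((biproduct.π (fun _ : Fin r => A ξ) k).app W t) = 0
    rw [hπ k, map_zero]
  let B : Closeds X := ⟨closure {ξ} ∩ (U : Set X)ᶜ, isClosed_closure.inter U.2.isClosed_compl⟩
  have hker : CohB1.support (kernel uH) ⊆ (B : Set X) := fun x hx =>
    ⟨hsupp (support_subset_of_mono (kernel.ι uH) hx), support_kernel_unitE U H hx⟩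
  obtain ⟨M', i, hi, hM', hsep, hsurj⟩ := exists_separated hH (kernel.ι uH)
    (isQCoh_kernel hH.1 (isQCoh_pushE hH.1 U) _) B hker
  have hu' : Mono (i ≫ uH) := (mono_iff_app_injective _).2 fun W => (injective_iff_map_eq_zero _).2 fun a ha => by
    obtain ⟨b, hb⟩ := (mem_range_kernel_app uH W (i.app W a)).2 ha
    exact hsep W a b hb.symm
  have hMsurj := hsurj ξ fun h => h.2 hξU
  obtain ⟨j, hj⟩ := hR.exists_mono
  let Ψ : (⨁ fun _ : Fin r => R) ⟶ C := biproduct.map (fun _ => j) ≫ Φ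
  have hmap : Mono (biproduct.map (fun _ : Fin r => j)) := Preadditive.mono_of_cancel_zero _ fun {W} q hq =>
    biproduct.hom_ext _ _ fun k => (cancel_mono j).1 (by
      rw [zero_comp, zero_comp, Category.assoc, ← biproduct.map_π (fun _ : Fin r => j) k, ← Category.assoc, hq,
        zero_comp])
  have : Mono Ψ := mono_comp _ _
  let P' := pb (i ≫ uH) Ψ
  have ha : Mono (pbFst (i ≫ uH) Ψ) := mono_pbFst _ _
  have hb : Mono (pbSnd (i ≫ uH) Ψ) := mono_pbSnd _ _
  have hRr := isCoh_biproduct (fun _ : Fin r => R) fun _ => hR.coh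
  have hΨsurj : ∀ m : H.presheaf.stalk ξ, ∃ t, stalkHom Ψ ξ t = stalkHom uH ξ m := by
    intro m
    have hm : m ∈ Submodule.span (X.presheaf.stalk ξ) (Set.range g) := hgs ▸ trivial
    induction hm using Submodule.span_induction with
    | mem x hx =>
      obtain ⟨k, rfl⟩ := hx
      obtain ⟨m₀, hm₀⟩ := hR.stalk_surjective j
        (stalkHom (η ξ) ξ (mgerm (Coh.structureModule X) hξW (1 : Γ(X, W₀))))
      refine ⟨stalkHom (biproduct.ι _ k) ξ m₀, ?_⟩
      rw [← stalkHom_comp, biproduct.ι_map_assoc, biproduct.ι_desc, stalkHom_comp, hm₀, hφ k W₀ hξW 1 hξU,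
        map_one, one_smul, hgerm]
    | zero => exact ⟨0, by rw [map_zero, map_zero]⟩
    | add x y _ _ hx hy =>
      obtain ⟨tx, hx⟩ := hx
      obtain ⟨ty, hy⟩ := hy
      exact ⟨tx + ty, by rw [map_add, map_add, hx, hy]⟩
    | smul e x _ hx =>
      obtain ⟨tx, hx⟩ := hx
      exact ⟨e • tx, by rw [stalkHom_smul, stalkHom_smul, hx]⟩
  have hsa : Function.Surjective (stalkHom (pbFst (i ≫ uH) Ψ ≫ i) ξ) := fun m => by
    obtain ⟨m', hm'⟩ := hMsurj m
    obtain ⟨t, ht⟩ := hΨsurj m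
    obtain ⟨z, hz, -⟩ := exists_pb_stalk (i ≫ uH) Ψ ξ m' t (by rw [stalkHom_comp, hm', ht])
    exact ⟨z, by rw [stalkHom_comp, hz, hm']⟩
  have hsb : Function.Surjective (stalkHom (pbSnd (i ≫ uH) Ψ) ξ) := fun t => by
    obtain ⟨m, hm⟩ : ∃ m, stalkHom uH ξ m = stalkHom Ψ ξ t := by
      rw [stalkHom_comp, hdec _ (stalkHom (biproduct.map fun _ : Fin r => j) ξ t), map_sum]
      have : ∀ k, ∃ m, stalkHom uH ξ m = stalkHom Φ ξ (stalkHom (biproduct.ι _ k) ξ
          (stalkHom (biproduct.π (fun _ : Fin r => A ξ) k) ξ (stalkHom (biproduct.map fun _ : Fin r => j) ξ t))) := fun k => by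
        obtain ⟨c, hc⟩ := stalk_η_surjective ξ ξ
          (stalkHom (biproduct.π (fun _ : Fin r => A ξ) k) ξ (stalkHom (biproduct.map fun _ : Fin r => j) ξ t))
        obtain ⟨c', -, hc'⟩ := hφ' k c
        exact ⟨c' • g k, by rw [stalkHom_smul, ← stalkHom_comp (biproduct.ι _ k) Φ, biproduct.ι_desc, ← hc, hc']⟩
      choose m hm using this
      exact ⟨∑ k, m k, by rw [map_sum]; exact Finset.sum_congr rfl fun k _ => hm k⟩
    obtain ⟨m', hm'⟩ := hMsurj m
    obtain ⟨z, -, hz⟩ := exists_pb_stalk (i ≫ uH) Ψ ξ m' t (by rw [stalkHom_comp, hm', hm])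
    exact ⟨z, hz⟩
  have : Mono (pbFst (i ≫ uH) Ψ ≫ i) := mono_comp _ _
  refine ⟨r, P', pbFst (i ≫ uH) Ψ ≫ i, pbSnd (i ≫ uH) Ψ, hr, inferInstance, hb,
    isCoh_of_mono (pbFst (i ≫ uH) Ψ) hM' (isQCoh_pb hM'.1 hRr.1 (isQCoh_pushE hH.1 U) _ _),
    isSmall_cokernel _ hsupp hsa, isSmall_cokernel _ ?_ hsb⟩
  refine fun x hx => ?_
  by_contra hxc
  refine hx (subsingleton_of_forall_eq 0 fun t => ?_)
  have hR0 : Subsingleton (R.presheaf.stalk x) := not_not.1 fun h => hxc (hR.support_subset h)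
  obtain ⟨W, hW, t, rfl⟩ := (⨁ fun _ : Fin r => R).presheaf.exists_germ_eq (x := x) t
  have h2 : mgerm (⨁ fun _ : Fin r => R) hW t = stalkHom (∑ k, biproduct.π (fun _ : Fin r => R) k ≫ biproduct.ι (fun _ : Fin r => R) k) x
      (mgerm (⨁ fun _ : Fin r => R) hW t) := by rw [biproduct.total, stalkHom_id]
  refine h2.trans ((stalkHom_sum _ _ x _).trans (Finset.sum_eq_zero fun k _ => ?_))
  rw [stalkHom_comp, Subsingleton.elim (stalkHom (biproduct.π (fun _ : Fin r => R) k) x _) 0, map_zero]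

end Groth.Agent.Devissage
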