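import Groth.Agent.Devissage.PowSub

/-!
Supports, and kernels of restriction to an open.
-/

set_option autoImplicit false
set_option backward.isDefEq.respectTransparency false

universe u

open CategoryTheory CategoryTheory.Limits AlgebraicGeometry TopologicalSpace Opposite

noncomputable section

namespace Groth.Agent.Devissage

open Groth.Agent.QC Groth.Agent.WeakAssLib

variable {X : Scheme.{u}}

lemma mem_support_of_germ {N : X.Modules} {U : X.Opens} {x : X} (hx : x ∈ U) {s : Γ(N, U)}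
    (h : mgerm N hx s ≠ 0) : x ∈ CohB1.support N := by
  by_contra hn
  exact h (germ_eq_zero_of_notMem hx s hn)

lemma notMem_support_of_surjective (S : ShortComplex X.Modules) (hS : S.ShortExact) (x : X)
    (h : Function.Surjective (stalkHom S.f x)) : x ∉ CohB1.support S.X₃ := by
  have hx := hS.map_of_exact (DerSch.stalkFunctor X x)
  have hg : Function.Surjective ((DerSch.stalkFunctor X x).map S.g).hom :=
    (ModuleCat.epi_iff_surjective _).1 hx.epi_g
  intro hne
  refine hne (subsingleton_of_forall_eq 0 fun m => ?_)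
  obtain ⟨m₂, rfl⟩ := hg m
  obtain ⟨m₁, rfl⟩ := h m₂
  exact ConcreteCategory.congr_hom (S.map (DerSch.stalkFunctor X x)).zero m₁

lemma support_subset_of_mono {M N : X.Modules} (i : N ⟶ M) [Mono i] :
    CohB1.support N ⊆ CohB1.support M := fun x hx => by
  by_contra h
  have : Subsingleton (M.presheaf.stalk x) := not_not.1 h
  exact hx ⟨fun a b => stalkHom_injective i x (Subsingleton.elim _ _)⟩

/-- `N ⟶ ι_* ι^* N` -/
abbrev unitE (U : X.Opens) (M : X.Modules) :
    M ⟶ (Scheme.Modules.pushforward U.ι).obj (M.restrict U.ι) :=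
  (Scheme.Modules.restrictAdjunction U.ι).unit.app M

lemma image_preimage_ι (U W : X.Opens) : U.ι ''ᵁ U.ι ⁻¹ᵁ W = U ⊓ W := by
  rw [Scheme.Hom.image_preimage_eq_opensRange_inf, Scheme.Opens.opensRange_ι]

lemma unitE_eq_zero_iff (U : X.Opens) (M : X.Modules) {W : X.Opens} (s : Γ(M, W)) :
    (unitE U M).app W s = 0 ↔ ∀ (x : X) (hx : x ∈ W), x ∈ U → mgerm M hx s = 0 := by
  have key : (unitE U M).app W s = res M (U.ι.image_preimage_le W) s := rfl
  constructor
  · intro h x hx hxU
    have hx' : x ∈ U.ι ''ᵁ U.ι ⁻¹ᵁ W := by rw [image_preimage_ι]; exact ⟨hxU, hx⟩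
    rw [← mgerm_res M (U.ι.image_preimage_le W) hx' s]
    exact (congrArg (mgerm M hx') (key.symm.trans h)).trans (map_zero _)
  · intro h
    refine key.trans (ext_germ M _ fun x hx => ?_)
    have hx' : x ∈ U ⊓ W := by rwa [← image_preimage_ι]
    rw [mgerm_res]
    exact h x hx'.2 hx'.1

lemma support_kernel_unitE (U : X.Opens) (M : X.Modules) :
    CohB1.support (kernel (unitE U M)) ⊆ (U : Set X)ᶜ := fun x hx hxU => by
  refine hx (subsingleton_of_forall_eq 0 fun m => stalkHom_injective (kernel.ι (unitE U M)) x ?_)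
  obtain ⟨W, hxW, a, rfl⟩ := (kernel (unitE U M)).presheaf.exists_germ_eq (x := x) m
  rw [map_zero]
  refine (stalkHom_germ _ hxW a).trans ?_
  exact (unitE_eq_zero_iff U M _).1 ((mem_range_kernel_app _ _ _).1 ⟨a, rfl⟩) x hxW hxU

lemma isQCoh_pushE [IsNoetherian X] {M : X.Modules} (hM : Coh.IsQCoh M) (U : X.Opens) :
    Coh.IsQCoh ((Scheme.Modules.pushforward U.ι).obj (M.restrict U.ι)) :=
  have : (M.restrict U.ι).IsQuasicoherent := isQCoh_restrict U.ι hM
  isQCoh_pushforward U.ι

theorem exists_split_support [IsNoetherian X] (M : X.Modules) (hM : Coh.IsCoh M) (Z Z' : Set X)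
    (hZ : IsClosed Z) (hZ' : IsClosed Z') (h : CohB1.support M ⊆ Z ∪ Z') :
    ∃ S : ShortComplex X.Modules, S.ShortExact ∧ Nonempty (S.X₂ ≅ M) ∧ Coh.IsCoh S.X₁ ∧
      Coh.IsCoh S.X₃ ∧ CohB1.support S.X₁ ⊆ Z' ∧ CohB1.support S.X₃ ⊆ Z := by
  let U : X.Opens := ⟨Zᶜ, hZ.isOpen_compl⟩
  have hq := isQCoh_pushE hM.1 U
  have hsub : CohB1.support (kernel (unitE U M)) ⊆ Z := by
    simpa [U] using support_kernel_unitE U M
  obtain ⟨M', i, hi, hc, hsep, hsurj⟩ :=
    exists_separated hM (kernel.ι (unitE U M)) (isQCoh_kernel hM.1 hq _) ⟨Z, hZ⟩ hsub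
  let S := ShortComplex.mk i (cokernel.π i) (cokernel.condition i)
  have hS : S.ShortExact := { exact := ShortComplex.exact_of_g_is_cokernel S (cokernelIsCokernel i) }
  refine ⟨S, hS, ⟨Iso.refl _⟩, hc, isCoh_cokernel hc.1 hM i, fun y hy => ?_, fun x hx => ?_⟩
  · by_contra hy'
    refine hy (subsingleton_of_forall_eq 0 fun m => ?_)
    obtain ⟨W, hyW, a, rfl⟩ := M'.presheaf.exists_germ_eq (x := y) m
    let W' : X.Opens := W ⊓ ⟨Z'ᶜ, hZ'.isOpen_compl⟩
    have hyW' : y ∈ W' := ⟨hyW, hy'⟩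
    have h0 : (unitE U M).app W' (i.app W' (res M' inf_le_left a)) = 0 :=
      (unitE_eq_zero_iff U M _).2 fun x hx hxU => germ_eq_zero_of_notMem hx _ fun hs =>
        (h hs).elim hxU hx.2
    obtain ⟨b, hb⟩ := (mem_range_kernel_app _ _ _).2 h0
    have := hsep W' _ b hb.symm
    refine (mgerm_res M' (inf_le_left : W' ≤ W) hyW' a).symm.trans ?_
    rw [this, map_zero]
  · by_contra hxZ
    exact notMem_support_of_surjective S hS x (hsurj x hxZ) hx

end Groth.Agent.Devissage
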