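import Groth.Agent.Devissage.Support
import Groth.Agent.DvrDom.ClosedProper
import Groth.Agent.RPushQC.SectionsExact
import Groth.Agent.ClSubLib.AnnIdeal
import Groth.Agent.GrT.TwistEpi

/-!
The structure modules of integral closed subschemes and their submodules.
-/

set_option autoImplicit false
set_option backward.isDefEq.respectTransparency false

universe u

open CategoryTheory CategoryTheory.Limits AlgebraicGeometry TopologicalSpace Opposite

noncomputable section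

namespace Groth.Agent.Devissage

open Groth.Agent.QC Groth.Agent.WeakAssLib

variable {X : Scheme.{u}}

/-- The closure of a point. -/
abbrev Zc (ξ : X) : Closeds X := ⟨closure {ξ}, isClosed_closure⟩

/-- The reduced closed subscheme on the closure of a point. -/
abbrev Zi (ξ : X) : (Scheme.IdealSheafData.vanishingIdeal (Zc ξ)).subscheme ⟶ X :=
  (Scheme.IdealSheafData.vanishingIdeal (Zc ξ)).subschemeι

/-- Its structure module, pushed forward. -/
abbrev A (ξ : X) : X.Modules := (Scheme.Modules.pushforward (Zi ξ)).obj (Coh.structureModule _)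

/-- The quotient map. -/
abbrev η (ξ : X) : Coh.structureModule X ⟶ A ξ := ClSub.unitToPush (Zi ξ)

lemma range_Zi (ξ : X) : Set.range (Zi ξ) = closure {ξ} :=
  DvrDom.range_vanishingIdeal_subschemeι (Zc ξ)

lemma specializes_Zi (ξ : X) (z : (Scheme.IdealSheafData.vanishingIdeal (Zc ξ)).subscheme) :
    ξ ⤳ Zi ξ z :=
  specializes_iff_mem_closure.2 (range_Zi ξ ▸ ⟨z, rfl⟩)

lemma η_eq_zero_iff (ξ : X) {W : X.Opens} (a : Γ(X, W)) :
    (η ξ).app W a = 0 ↔ ∀ h : ξ ∈ W, ¬ IsUnit ((X.presheaf.germ W ξ h).hom a) := by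
  have : IsReduced (Scheme.IdealSheafData.vanishingIdeal (Zc ξ)).subscheme :=
    DvrDom.isReduced_vanishingIdeal_subscheme _
  constructor
  · intro h hξ hu
    obtain ⟨z, hz⟩ : ξ ∈ Set.range (Zi ξ) := by rw [range_Zi]; exact subset_closure rfl
    have h1 : z ∈ (Zi ξ) ⁻¹ᵁ X.basicOpen a := by
      show Zi ξ z ∈ X.basicOpen a
      rw [hz]
      exact (X.mem_basicOpen a ξ hξ).2 hu
    rw [Scheme.preimage_basicOpen, show ((Zi ξ).app W).hom a = 0 from h, Scheme.basicOpen_zero] at h1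
    exact h1
  · intro h
    refine eq_zero_of_basicOpen_eq_bot (U := (Zi ξ) ⁻¹ᵁ W) ((Zi ξ).app W a) (Opens.ext (Set.eq_empty_of_forall_notMem fun z hz => ?_))
    rw [← Scheme.preimage_basicOpen] at hz
    have hξ := (specializes_Zi ξ z).mem_open (X.basicOpen a).2 hz
    exact h (X.basicOpen_le a hξ) ((X.mem_basicOpen a ξ _).1 hξ)

lemma isCoh_unit (Y : Scheme.{u}) : Coh.IsCoh (Coh.structureModule Y) := by
  have : (Coh.structureModule Y).IsQuasicoherent := isQCoh_unit Y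
  exact ⟨isQCoh_unit Y, (isFT_iff_finite_sections (M := Coh.structureModule Y)).mpr fun U =>
    inferInstanceAs (Module.Finite Γ(Y, U.1) Γ(Y, U.1))⟩

theorem isCoh_A [IsNoetherian X] (ξ : X) : Coh.IsCoh (A ξ) := by
  have : (Coh.structureModule (Scheme.IdealSheafData.vanishingIdeal (Zc ξ)).subscheme).IsQuasicoherent :=
    isQCoh_unit _
  exact ⟨isQCoh_pushforward _, (isCoh_pushforward_of_isFinite (Zi ξ) (isCoh_unit _).2).2⟩

lemma exists_eta_lift (ξ : X) (x : X) {W : X.Opens} (hx : x ∈ W) (t : Γ(A ξ, W)) :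
    ∃ (V : X.Opens) (h : V ≤ W) (a : Γ(X, V)), x ∈ V ∧ (η ξ).app V a = res (A ξ) h t := by
  obtain ⟨V, hV, hxV, hVW⟩ := exists_isAffineOpen_mem_and_subset (X := X) (U := W) hx
  obtain ⟨a, ha⟩ := (Zi ξ).app_surjective V hV (res (A ξ) (show V ≤ W from hVW) t)
  exact ⟨V, hVW, a, hxV, ha⟩

lemma stalk_η_surjective (ξ x : X) : Function.Surjective (stalkHom (η ξ) x) := fun m => by
  obtain ⟨W, hxW, t, rfl⟩ := (A ξ).presheaf.exists_germ_eq (x := x) m
  obtain ⟨V, hVW, a, hxV, ha⟩ := exists_eta_lift ξ x hxW t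
  exact ⟨mgerm _ hxV a, by rw [stalkHom_germ, ha]; exact mgerm_res _ hVW hxV t⟩

instance epi_η (ξ : X) : Epi (η ξ) :=
  ⟨fun a b e => Scheme.Modules.hom_ext _ _ fun U => by
    ext t
    refine section_eq_of_locally fun x hx => ?_
    obtain ⟨V, hVU, r, hxV, hr⟩ := exists_eta_lift ξ x hx t
    refine ⟨V, hVU, hxV, ?_⟩
    rw [app_res, app_res, ← hr]
    exact ConcreteCategory.congr_hom (congrArg (fun ψ => Scheme.Modules.Hom.app ψ V) e) r⟩

/-- The stalk at the generic point is simple. -/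
lemma stalk_A_generates (ξ : X) {m : (A ξ).presheaf.stalk ξ} (hm : m ≠ 0)
    (m' : (A ξ).presheaf.stalk ξ) : ∃ c : X.presheaf.stalk ξ, m' = c • m := by
  obtain ⟨r, rfl⟩ := stalk_η_surjective ξ ξ m
  obtain ⟨r', rfl⟩ := stalk_η_surjective ξ ξ m'
  obtain ⟨W, hξ, a, rfl⟩ := (Coh.structureModule X).presheaf.exists_germ_eq (x := ξ) r
  obtain ⟨W', hξ', a', rfl⟩ := (Coh.structureModule X).presheaf.exists_germ_eq (x := ξ) r'
  have hu : IsUnit ((X.presheaf.germ W ξ hξ).hom a) := by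
    by_contra hu
    refine hm ((stalkHom_germ (η ξ) hξ a).trans ?_)
    rw [show (η ξ).app W a = 0 from (η_eq_zero_iff ξ a).2 fun _ => hu, map_zero]
  let D : X.Opens := X.basicOpen (show Γ(X, W) from a) ⊓ W'
  have hD : ξ ∈ D := ⟨(X.mem_basicOpen _ ξ hξ).2 hu, hξ'⟩
  have hDW : D ≤ W := inf_le_left.trans (X.basicOpen_le _)
  have hunit : IsUnit (resO X hDW a) := by
    have h1 : IsUnit (resO X (X.basicOpen_le (show Γ(X, W) from a)) a) :=
      X.toLocallyRingedSpace.toRingedSpace.isUnit_res_basicOpen a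
    have h2 := h1.map (resO X (inf_le_left : D ≤ _))
    rwa [resO_resO] at h2
  obtain ⟨v, hv⟩ := hunit
  let b : Γ(X, D) := resO X (inf_le_right : D ≤ W') a' * ↑v⁻¹
  refine ⟨(X.presheaf.germ D ξ hD).hom b, ?_⟩
  rw [← stalkHom_smul]
  refine congrArg (stalkHom (η ξ) ξ) ?_
  refine Eq.trans ?_ (congrArg ((X.presheaf.germ D ξ hD).hom b • ·)
    (mgerm_res (Coh.structureModule X) hDW hD a))
  rw [← mgerm_smul]
  refine (mgerm_res (Coh.structureModule X) (inf_le_right : D ≤ W') hD a').symm.trans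
    (congrArg (mgerm (Coh.structureModule X) hD) ?_)
  show resO X (inf_le_right : D ≤ W') a' = b * resO X hDW a
  rw [← hv, mul_assoc, Units.inv_mul, mul_one]

lemma support_A_subset (ξ : X) : CohB1.support (A ξ) ⊆ closure {ξ} :=
  (ClSubLib.support_pushforward_subset (Zi ξ) _).trans (range_Zi ξ).le

/-- Supported in the closure of `ξ` without containing `ξ`. -/
def IsSmall (ξ : X) (M : X.Modules) : Prop :=
  CohB1.support M ⊆ closure {ξ} ∧ ξ ∉ CohB1.support M

/-- A coherent submodule of `A ξ` nonzero at `ξ`. -/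
structure IsPiece (ξ : X) (R : X.Modules) : Prop where
  coh : Coh.IsCoh R
  exists_mono : ∃ j : R ⟶ A ξ, Mono j
  mem : ξ ∈ CohB1.support R

lemma IsPiece.support_subset {ξ : X} {R : X.Modules} (h : IsPiece ξ R) :
    CohB1.support R ⊆ closure {ξ} := by
  obtain ⟨j, hj⟩ := h.exists_mono
  exact (support_subset_of_mono j).trans (support_A_subset ξ)

lemma IsPiece.support_eq {ξ : X} {R : X.Modules} (h : IsPiece ξ R) :
    CohB1.support R = closure {ξ} :=
  h.support_subset.antisymm fun _ hx =>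
    stableUnderSpecialization_support (hM := h.coh.1) (specializes_iff_mem_closure.2 hx) h.mem

lemma IsPiece.stalk_surjective {ξ : X} {R : X.Modules} (h : IsPiece ξ R) (j : R ⟶ A ξ) [Mono j] :
    Function.Surjective (stalkHom j ξ) := fun m' => by
  have := not_subsingleton_iff_nontrivial.1 h.mem
  obtain ⟨m, hm⟩ := exists_ne (0 : R.presheaf.stalk ξ)
  have hjm : stalkHom j ξ m ≠ 0 := fun h0 => hm (stalkHom_injective j ξ (h0.trans (map_zero _).symm))
  obtain ⟨c, hc⟩ := stalk_A_generates ξ hjm m'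
  exact ⟨c • m, (stalkHom_smul j ξ c m).trans hc.symm⟩

lemma piece_A [IsNoetherian X] (ξ : X) : IsPiece ξ (A ξ) where
  coh := isCoh_A ξ
  exists_mono := ⟨𝟙 _, inferInstance⟩
  mem := by
    refine mem_support_of_germ (U := ⊤) (x := ξ) trivial (s := (η ξ).app ⊤ (1 : Γ(X, ⊤))) ?_
    intro h0
    obtain ⟨c, hc⟩ : ∃ c : Γ(A ξ, ⊤), c = (η ξ).app ⊤ (1 : Γ(X, ⊤)) := ⟨_, rfl⟩
    obtain ⟨W, hW, iU, iV, he⟩ := TopCat.Presheaf.germ_eq (A ξ).presheaf (U := (⊤ : X.Opens)) (V := (⊤ : X.Opens)) ξ (trivial : ξ ∈ (⊤ : X.Opens))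
      (trivial : ξ ∈ (⊤ : X.Opens)) ((η ξ).app ⊤ (1 : Γ(X, ⊤))) 0 (h0.trans (map_zero _).symm)
    have : (η ξ).app W (1 : Γ(X, W)) = 0 := by
      have h1 := app_res (η ξ) iU.le (1 : Γ(X, ⊤))
      rw [show res (Coh.structureModule X) iU.le (1 : Γ(X, ⊤)) = (1 : Γ(X, W)) from map_one (resO X iU.le)] at h1
      rw [← h1]
      exact he.trans (map_zero _)
    exact (η_eq_zero_iff ξ (1 : Γ(X, W))).1 this hW (by rw [map_one]; exact isUnit_one)

/-- The fibre product of two morphisms of modules. -/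
abbrev pb {P Q C : X.Modules} (u : P ⟶ C) (v : Q ⟶ C) : X.Modules := kernel (biprod.desc u (-v))

/-- first projection -/
abbrev pbFst {P Q C : X.Modules} (u : P ⟶ C) (v : Q ⟶ C) : pb u v ⟶ P := kernel.ι _ ≫ biprod.fst

/-- second projection -/
abbrev pbSnd {P Q C : X.Modules} (u : P ⟶ C) (v : Q ⟶ C) : pb u v ⟶ Q := kernel.ι _ ≫ biprod.snd

lemma pb_condition {P Q C : X.Modules} (u : P ⟶ C) (v : Q ⟶ C) : pbFst u v ≫ u = pbSnd u v ≫ v := by
  rw [← sub_eq_zero]
  have h : biprod.fst ≫ u - biprod.snd ≫ v = biprod.desc u (-v) := by apply biprod.hom_ext' <;> simp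
  calc _ = kernel.ι (biprod.desc u (-v)) ≫ (biprod.fst ≫ u - biprod.snd ≫ v) := by simp
    _ = kernel.ι (biprod.desc u (-v)) ≫ biprod.desc u (-v) := congrArg (_ ≫ ·) h
    _ = 0 := kernel.condition _

lemma mono_pbFst {P Q C : X.Modules} (u : P ⟶ C) (v : Q ⟶ C) [Mono v] : Mono (pbFst u v) :=
  Preadditive.mono_of_cancel_zero _ fun {W} g hg => by
    have h2 : g ≫ pbSnd u v = 0 := (cancel_mono v).1 (by
      rw [Category.assoc, ← pb_condition, ← Category.assoc, hg, zero_comp, zero_comp])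
    refine (cancel_mono (kernel.ι (biprod.desc u (-v)))).1 ?_
    rw [zero_comp]
    apply biprod.hom_ext
    · rw [Category.assoc, zero_comp]; exact hg
    · rw [Category.assoc, zero_comp]; exact h2

lemma mono_pbSnd {P Q C : X.Modules} (u : P ⟶ C) (v : Q ⟶ C) [Mono u] : Mono (pbSnd u v) :=
  Preadditive.mono_of_cancel_zero _ fun {W} g hg => by
    have h2 : g ≫ pbFst u v = 0 := (cancel_mono u).1 (by
      rw [Category.assoc, pb_condition, ← Category.assoc, hg, zero_comp, zero_comp])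
    refine (cancel_mono (kernel.ι (biprod.desc u (-v)))).1 ?_
    rw [zero_comp]
    apply biprod.hom_ext
    · rw [Category.assoc, zero_comp]; exact h2
    · rw [Category.assoc, zero_comp]; exact hg

lemma isQCoh_pb {P Q C : X.Modules} (hP : Coh.IsQCoh P) (hQ : Coh.IsQCoh Q) (hC : Coh.IsQCoh C)
    (u : P ⟶ C) (v : Q ⟶ C) : Coh.IsQCoh (pb u v) :=
  isQCoh_kernel (RPushQC.isQCoh_biprod hP hQ) hC _

lemma exists_pb_section {P Q C : X.Modules} (u : P ⟶ C) (v : Q ⟶ C) (W : X.Opens) (a : Γ(P, W)) (b : Γ(Q, W))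
    (h : u.app W a = v.app W b) : ∃ z, (pbFst u v).app W z = a ∧ (pbSnd u v).app W z = b := by
  let t : Γ(P ⊞ Q, W) := (biprod.inl : P ⟶ P ⊞ Q).app W a + (biprod.inr : Q ⟶ P ⊞ Q).app W b
  have e : ∀ {L : X.Modules} (φ : P ⊞ Q ⟶ L) (φ₁ : P ⟶ L) (φ₂ : Q ⟶ L),
      biprod.inl ≫ φ = φ₁ → biprod.inr ≫ φ = φ₂ → φ.app W t = φ₁.app W a + φ₂.app W b := fun φ φ₁ φ₂ h₁ h₂ => by
    subst h₁ h₂
    exact map_add (φ.app W).hom _ _
  obtain ⟨z, hz⟩ := (mem_range_kernel_app (biprod.desc u (-v)) W t).2 (by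
    rw [e _ u (-v) (by simp) (by simp)]
    show u.app W a + -(v.app W b) = 0
    rw [h, add_neg_cancel])
  refine ⟨z, ?_, ?_⟩
  · refine (congrArg ((biprod.fst : P ⊞ Q ⟶ P).app W) hz).trans ((e _ (𝟙 _) 0 biprod.inl_fst biprod.inr_fst).trans ?_)
    exact add_zero a
  · refine (congrArg ((biprod.snd : P ⊞ Q ⟶ Q).app W) hz).trans ((e _ 0 (𝟙 _) biprod.inl_snd biprod.inr_snd).trans ?_)
    exact zero_add b

lemma exists_pb_stalk {P Q C : X.Modules} (u : P ⟶ C) (v : Q ⟶ C) (x : X) (a : P.presheaf.stalk x)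
    (b : Q.presheaf.stalk x) (h : stalkHom u x a = stalkHom v x b) :
    ∃ z, stalkHom (pbFst u v) x z = a ∧ stalkHom (pbSnd u v) x z = b := by
  obtain ⟨U, hxU, a, rfl⟩ := P.presheaf.exists_germ_eq (x := x) a
  obtain ⟨U', hxU', b, rfl⟩ := Q.presheaf.exists_germ_eq (x := x) b
  obtain ⟨W, hxW, i1, i2, he⟩ := TopCat.Presheaf.germ_eq C.presheaf x hxU hxU' (u.app U a) (v.app U' b)
    ((stalkHom_germ u hxU a).symm.trans (h.trans (stalkHom_germ v hxU' b)))
  obtain ⟨z, hz1, hz2⟩ := exists_pb_section u v W (res P i1.le a) (res Q i2.le b)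
    ((app_res u i1.le a).symm.trans (he.trans (app_res v i2.le b)))
  refine ⟨mgerm _ hxW z, ?_, ?_⟩
  · rw [stalkHom_germ, hz1]; exact mgerm_res P i1.le hxW a
  · rw [stalkHom_germ, hz2]; exact mgerm_res Q i2.le hxW b

end Groth.Agent.Devissage
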