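import Groth.Agent.QC.SubSheaf
import Groth.Agent.QC.Support
import Groth.Agent.QC.IdealMod
import Groth.Agent.WeakAssLib.Stalk
import Groth.Agent.ClSubLib.Support
import Mathlib.RingTheory.Filtration

/-!
The submodules `K ^ n • M` and an Artin-Rees separation lemma.
-/

set_option autoImplicit false
set_option backward.isDefEq.respectTransparency false

universe u

open CategoryTheory CategoryTheory.Limits AlgebraicGeometry TopologicalSpace Opposite

noncomputable section

namespace Groth.Agent.Devissage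

open Groth.Agent.QC Groth.Agent.WeakAssLib

variable {X : Scheme.{u}} (K : X.IdealSheafData) (n : ℕ) {M : X.Modules}

variable (M) in
/-- `K(U) ^ n • M(U)` -/
abbrev pw (U : X.affineOpens) : Submodule Γ(X, U.1) Γ(M, U.1) := (K.ideal U ^ n) • ⊤

/-- the ideal on a basic open -/
abbrev kb (U : X.affineOpens) (f : Γ(X, U.1)) : Ideal Γ(X, X.basicOpen f) := K.ideal (X.affineBasicOpen f)

lemma exists_mem_of_basicOpen (hM : Coh.IsQCoh M) (U : X.affineOpens) (f : Γ(X, U.1))
    (t : Γ(M, X.basicOpen f)) (ht : t ∈ (kb K U f ^ n) • (⊤ : Submodule Γ(X, X.basicOpen f) Γ(M, X.basicOpen f))) :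
    ∃ (m : ℕ) (s : Γ(M, U.1)), s ∈ pw K n M U ∧
      res M (X.basicOpen_le f) s = resO X (X.basicOpen_le f) f ^ m • t := by
  have hloc := isLoc_of_isQCoh U.2 (hM := hM)
  have := U.2.isLocalization_basicOpen f
  refine Submodule.smul_induction_on ht (fun c hc w _ => ?_) (fun a b ha hb => ?_)
  ·
    obtain ⟨j, w₀, hw₀⟩ := hloc.exists_extend f w
    rw [show kb K U f ^ n = (K.ideal U ^ n).map (resO X (X.basicOpen_le f)) by
      rw [Ideal.map_pow]
      exact congrArg (· ^ n) (K.map_ideal_basicOpen U f).symm] at hc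
    obtain ⟨⟨⟨a, ha⟩, ⟨_, k, rfl⟩⟩, he⟩ :=
      (IsLocalization.mem_map_algebraMap_iff (Submonoid.powers f) Γ(X, X.basicOpen f)).1 hc
    have he' : c * resO X (X.basicOpen_le f) f ^ k = resO X (X.basicOpen_le f) a :=
      (congrArg (c * ·) (map_pow _ _ _).symm).trans he
    refine ⟨k + j, a • w₀, Submodule.smul_mem_smul ha trivial, ?_⟩
    rw [res_smul, hw₀, ← he', smul_smul, smul_smul, pow_add]
    congr 1; ring
  · obtain ⟨ma, sa, hsa, ea⟩ := ha
    obtain ⟨mb, sb, hsb, eb⟩ := hb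
    refine ⟨ma + mb, f ^ mb • sa + f ^ ma • sb, add_mem (Submodule.smul_mem _ _ hsa) (Submodule.smul_mem _ _ hsb), ?_⟩
    rw [map_add, res_smul, res_smul, ea, eb, map_pow, map_pow, smul_smul, smul_smul, ← pow_add, ← pow_add,
      smul_add, add_comm mb ma]

lemma res_mem_pow (U V : X.affineOpens) (h : V.1 ≤ U.1) (s : Γ(M, U.1))
    (hs : s ∈ pw K n M U) :
    res M h s ∈ pw K n M V := by
  refine Submodule.smul_induction_on hs (fun c hc w _ => ?_) (fun a b ha hb => ?_)
  · rw [res_smul]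
    refine Submodule.smul_mem_smul ?_ trivial
    rw [← K.map_ideal (U := V) (V := U) h, ← Ideal.map_pow]
    exact Ideal.mem_map_of_mem _ hc
  · rw [map_add]; exact add_mem ha hb

variable (M) in
/-- `K ^ n • M` as a family of submodules. -/
def powSub (hM : Coh.IsQCoh M) : Sub M where
  obj O :=
    { carrier := {s | ∀ (U : X.affineOpens) (h : U.1 ≤ O),
        res M h s ∈ (K.ideal U ^ n) • (⊤ : Submodule Γ(X, U.1) Γ(M, U.1))}
      zero_mem' := fun U h => by rw [map_zero]; exact zero_mem _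
      add_mem' := fun ha hb U h => by rw [map_add]; exact add_mem (ha U h) (hb U h)
      smul_mem' := fun c a ha U h => by rw [res_smul]; exact Submodule.smul_mem _ _ (ha U h) }
  res_mem := fun {O' O} h {s} hs U hU => by
    rw [res_res]; exact hs U (hU.trans h)
  local' := fun {O} s hs U hU => by
    set t := res M hU s
    let N : Submodule Γ(X, U.1) Γ(M, U.1) := (K.ideal U ^ n) • ⊤
    let c : Ideal Γ(X, U.1) := N.colon {t}
    suffices c = ⊤ by
      have h1 : (1 : Γ(X, U.1)) ∈ c := this ▸ trivial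
      rwa [Submodule.mem_colon_singleton, one_smul] at h1
    by_contra hc
    obtain ⟨P, hP, hcP⟩ := Ideal.exists_le_maximal c hc
    let x : X := U.2.fromSpec ⟨P, hP.isPrime⟩
    have hxU : x ∈ U.1 := U.2.range_fromSpec.subset ⟨_, rfl⟩
    obtain ⟨W, hWO, hxW, hW⟩ := hs x (hU hxU)
    obtain ⟨f, hf, hxf⟩ := U.2.exists_basicOpen_le (V := W) ⟨x, hxW⟩ hxU
    have h1 := hW (X.affineBasicOpen f) hf
    rw [res_res] at h1
    obtain ⟨m, s', hs', e⟩ := exists_mem_of_basicOpen K n hM U f _ h1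
    have h0 : res M (X.basicOpen_le f) (s' - f ^ m • t) = 0 := by
      rw [map_sub, res_smul, map_pow, e, res_res]
      exact sub_self _
    obtain ⟨e', he'⟩ := (isLoc_of_isQCoh U.2 (hM := hM)).exists_pow_smul_eq_zero f _ h0
    have hmem : f ^ (e' + m) ∈ c := by
      rw [Submodule.mem_colon_singleton, pow_add, mul_smul]
      rw [smul_sub, sub_eq_zero] at he'
      rw [← he']
      exact Submodule.smul_mem _ _ hs'
    have hfP : f ∉ P := by
      have : (⟨P, hP.isPrime⟩ : PrimeSpectrum Γ(X, U.1)) ∈ U.2.fromSpec ⁻¹ᵁ X.basicOpen f := hxf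
      rwa [U.2.fromSpec_preimage_basicOpen] at this
    exact hfP (hP.isPrime.mem_of_pow_mem _ (hcP hmem))

lemma mem_powSub_affine (hM : Coh.IsQCoh M) (U : X.affineOpens) (s : Γ(M, U.1)) :
    s ∈ (powSub K n M hM).obj U.1 ↔ s ∈ (K.ideal U ^ n) • (⊤ : Submodule Γ(X, U.1) Γ(M, U.1)) :=
  ⟨fun h => by
    have h1 := h U le_rfl
    rwa [res_self] at h1,
    fun h V hV => res_mem_pow K n U V hV s h⟩

lemma exists_mem_powSub (hM : Coh.IsQCoh M) (U : X.affineOpens) (f : Γ(X, U.1))
    (t : Γ(M, X.basicOpen f)) (ht : t ∈ (powSub K n M hM).obj (X.basicOpen f)) :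
    ∃ (m : ℕ) (s : Γ(M, U.1)), s ∈ (powSub K n M hM).obj U.1 ∧
      res M (X.basicOpen_le f) s = resO X (X.basicOpen_le f) f ^ m • t := by
  have h0 := ht (X.affineBasicOpen f) le_rfl
  have h1 : t ∈ (kb K U f ^ n) • (⊤ : Submodule Γ(X, X.basicOpen f) Γ(M, X.basicOpen f)) := by
    rw [← res_self M (le_refl (X.basicOpen f)) t]
    exact h0
  obtain ⟨m, s, hs, e⟩ := exists_mem_of_basicOpen K n hM U f t h1
  exact ⟨m, s, (mem_powSub_affine K n hM U s).2 hs, e⟩

lemma isQCoh_powSub (hM : Coh.IsQCoh M) : Coh.IsQCoh (powSub K n M hM).toModules := by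
  refine isQCoh_of_isLoc fun x => ?_
  obtain ⟨D, hD, hx⟩ := exists_affine_mem x
  let S := powSub K n M hM
  have hloc := isLoc_of_isQCoh hD (hM := hM)
  refine ⟨D, hD, hx, fun f t => ?_, fun f s hs => ?_⟩
  · have ht : S.ι.app _ t ∈ S.obj (X.basicOpen f) := (S.range_ι_app _ _).mp ⟨t, rfl⟩
    obtain ⟨m, s, hs, e⟩ := exists_mem_powSub K n hM ⟨D, hD⟩ f _ ht
    obtain ⟨s', rfl⟩ := (S.range_ι_app _ _).mpr hs
    refine ⟨m, s', S.ι_app_injective _ ?_⟩
    rw [← app_res, Scheme.Modules.Hom.app_smul]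
    exact e
  · obtain ⟨k, hk⟩ := hloc.exists_pow_smul_eq_zero f (S.ι.app D s) (by rw [app_res, hs, map_zero])
    exact ⟨k, S.ι_app_injective _ (by rw [Scheme.Modules.Hom.app_smul, hk, map_zero])⟩

lemma germ_eq_zero_of_notMem {N : X.Modules} {U : X.Opens} {x : X} (hx : x ∈ U) (s : Γ(N, U))
    (h : x ∉ CohB1.support N) : mgerm N hx s = 0 :=
  @Subsingleton.elim _ (not_not.1 h) _ _

/-- A quasi-coherent submodule supported in a closed set is separated from `K ^ n • M`. -/
theorem exists_separated [IsNoetherian X] {M N : X.Modules} (hM : Coh.IsCoh M) (j : N ⟶ M) [Mono j]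
    (hN : Coh.IsQCoh N) (B : Closeds X) (hB : CohB1.support N ⊆ B) :
    ∃ (M' : X.Modules) (i : M' ⟶ M), Mono i ∧ Coh.IsCoh M' ∧
      (∀ (W : X.Opens) (a : Γ(M', W)) (b : Γ(N, W)), i.app W a = j.app W b → a = 0) ∧
      ∀ x : X, x ∉ B → Function.Surjective (stalkHom i x) := by
  classical
  let K := Scheme.IdealSheafData.vanishingIdeal B
  have hNc : Coh.IsCoh N := isCoh_of_mono j hM hN
  have key : ∀ U : X.affineOpens, ∃ n₀ : ℕ, ∀ n, n₀ ≤ n → ∀ b : Γ(N, U.1),
      j.app U.1 b ∈ (K.ideal U ^ n) • (⊤ : Submodule Γ(X, U.1) Γ(M, U.1)) → b = 0 := by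
    intro U
    have := (isCoh_iff_finite_sections.1 hM).2 U
    have := (isCoh_iff_finite_sections.1 hNc).2 U
    have : IsNoetherianRing Γ(X, U.1) := IsLocallyNoetherian.component_noetherian U
    have hrad : K.ideal U ≤ (Module.annihilator Γ(X, U.1) Γ(N, U.1)).radical := by
      intro a ha
      obtain ⟨T, hT⟩ := Module.Finite.fg_top (R := Γ(X, U.1)) (M := Γ(N, U.1))
      have hk : ∀ t : Γ(N, U.1), ∃ k, a ^ k • t = 0 := fun t => by
        refine (isLoc_of_isQCoh U.2 (hM := hN)).exists_pow_smul_eq_zero a t (ext_germ N _ fun x hx => ?_)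
        refine germ_eq_zero_of_notMem hx _ fun hxs => ?_
        have hxB : x ∈ (K.support : Set X) := by
          rw [Scheme.IdealSheafData.coe_support_vanishingIdeal]; exact hB hxs
        have hz : x ∈ (K.support : Set X) ∩ U.1 := ⟨hxB, X.basicOpen_le a hx⟩
        rw [K.coe_support_inter U] at hz
        exact (X.mem_zeroLocus_iff _ _).1 hz.1 a ha hx
      choose k hk using hk
      refine ⟨T.sup k, ?_⟩
      rw [← Submodule.annihilator_top, ← hT, Submodule.mem_annihilator_span]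
      rintro ⟨g, hg⟩
      have hle : k g ≤ T.sup k := Finset.le_sup hg
      rw [← Nat.sub_add_cancel hle, pow_add, mul_smul, hk, smul_zero]
    obtain ⟨k₀, hk₀⟩ := Ideal.exists_pow_le_of_le_radical_of_fg hrad (IsNoetherian.noetherian _)
    let N' := LinearMap.range (appₗ j U.1)
    obtain ⟨k, hk⟩ := Ideal.exists_pow_inf_eq_pow_smul (K.ideal U) N'
    refine ⟨k₀ + k, fun n hn b hb => app_injective_of_mono j U.1 ?_⟩
    have hmem : j.app U.1 b ∈ (K.ideal U ^ n) • (⊤ : Submodule Γ(X, U.1) Γ(M, U.1)) ⊓ N' := ⟨hb, b, rfl⟩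
    rw [hk n (by omega)] at hmem
    have hzero : (K.ideal U ^ (n - k)) • N' = ⊥ := by
      rw [eq_bot_iff, Submodule.smul_le]
      rintro a ha _ ⟨t, rfl⟩
      show a • j.app U.1 t ∈ (⊥ : Submodule _ _)
      rw [← Scheme.Modules.Hom.app_smul,
        Module.mem_annihilator.1 (hk₀ (Ideal.pow_le_pow_right (by omega) ha)) t, map_zero]
      exact zero_mem _
    have h0 := (Submodule.smul_mono le_rfl inf_le_right : _ ≤ (K.ideal U ^ (n - k)) • N') hmem
    rw [hzero, Submodule.mem_bot] at h0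
    rw [h0, map_zero]
  choose n₀ hn₀ using key
  obtain ⟨ι, hι, U, hU, -, hcov⟩ := exists_finite_affine_cover (X := X) (W := ⊤)
    (by simpa using isCompact_univ)
  let n := Finset.univ.sup fun i => n₀ ⟨U i, hU i⟩
  let S := powSub K n M hM.1
  refine ⟨S.toModules, S.ι, inferInstance, isCoh_of_mono S.ι hM (isQCoh_powSub K n hM.1),
    fun W a b hab => S.ι_app_injective W ?_, fun x hx m => ?_⟩
  · rw [hab, map_zero]
    suffices b = 0 by rw [this, map_zero]
    refine section_eq_of_locally fun x hxW => ?_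
    obtain ⟨i, hi⟩ := hcov x trivial
    obtain ⟨f, hf, hxf⟩ := (hU i).exists_basicOpen_le (V := W) ⟨x, hxW⟩ hi
    refine ⟨_, hf, hxf, ?_⟩
    rw [map_zero]
    set b' := res N hf b
    obtain ⟨l, b₀, hb₀⟩ := (isLoc_of_isQCoh (hU i) (hM := hN)).exists_extend f b'
    have hmem : j.app _ b' ∈ S.obj (X.basicOpen f) := by
      rw [show j.app _ b' = res M hf (j.app W b) from (app_res j hf b).symm, ← hab]
      exact S.res_mem hf ((S.range_ι_app _ _).mp ⟨a, rfl⟩)
    obtain ⟨m, s, hs, e⟩ := exists_mem_powSub K n hM.1 ⟨U i, hU i⟩ f _ hmem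
    replace hs := (mem_powSub_affine K n hM.1 ⟨U i, hU i⟩ s).1 hs
    have h0 : res M (X.basicOpen_le f) (f ^ m • j.app (U i) b₀ - f ^ l • s) = 0 := by
      rw [map_sub, res_smul, res_smul, e, map_pow, map_pow, app_res, hb₀, Scheme.Modules.Hom.app_smul,
        smul_comm, sub_self]
    obtain ⟨k, hk⟩ := (isLoc_of_isQCoh (hU i) (hM := hM.1)).exists_pow_smul_eq_zero f _ h0
    rw [smul_sub, sub_eq_zero, smul_smul, smul_smul, ← pow_add, ← pow_add, ← Scheme.Modules.Hom.app_smul] at hk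
    have hz := hn₀ ⟨U i, hU i⟩ n (Finset.le_sup (f := fun i => n₀ ⟨U i, hU i⟩) (Finset.mem_univ i))
      (f ^ (k + m) • b₀) (by rw [hk]; exact Submodule.smul_mem _ _ hs)
    have h1 := congrArg (res N (X.basicOpen_le f)) hz
    rw [res_smul, map_zero, hb₀, smul_smul, map_pow, ← pow_add] at h1
    have hu : IsUnit (resO X (X.basicOpen_le f) f) := by
      have := (hU i).isLocalization_basicOpen f
      exact IsLocalization.Away.algebraMap_isUnit (S := Γ(X, X.basicOpen f)) f
    exact (hu.pow _).smul_eq_zero.1 h1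
  · obtain ⟨W, hxW, s, rfl⟩ := M.presheaf.exists_germ_eq (x := x) m
    obtain ⟨V, hV, hxV, hVW⟩ := exists_isAffineOpen_mem_and_subset (X := X)
      (U := W ⊓ B.compl) ⟨hxW, hx⟩
    have hmem : res M (show V ≤ W from fun y hy => (hVW hy).1) s ∈ S.obj V := by
      intro U' hU'
      have htop : K.ideal U' = ⊤ := by
        by_contra hne
        obtain ⟨P, hP, hKP⟩ := Ideal.exists_le_maximal _ hne
        let y : X := U'.2.fromSpec ⟨P, hP.isPrime⟩
        have hyU : y ∈ U'.1 := U'.2.range_fromSpec.subset ⟨_, rfl⟩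
        have hy : y ∈ X.zeroLocus (U := U'.1) (K.ideal U') := by
          rw [Scheme.mem_zeroLocus_iff]
          intro a ha hya
          have : (⟨P, hP.isPrime⟩ : PrimeSpectrum Γ(X, U'.1)) ∈ U'.2.fromSpec ⁻¹ᵁ X.basicOpen a := hya
          rw [U'.2.fromSpec_preimage_basicOpen] at this
          exact this (hKP ha)
        have : y ∈ (K.support : Set X) ∩ U'.1 := (K.coe_support_inter U').symm ▸ ⟨hy, hyU⟩
        rw [Scheme.IdealSheafData.coe_support_vanishingIdeal] at this
        exact (hVW (hU' hyU)).2 this.1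
      rw [htop, Ideal.top_pow, Submodule.top_smul]
      trivial
    obtain ⟨a, ha⟩ := (S.range_ι_app _ _).mpr hmem
    exact ⟨mgerm S.toModules hxV a, by rw [stalkHom_germ, ha]; exact mgerm_res M _ hxV s⟩

end Groth.Agent.Devissage
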