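import Groth.Agent.Devissage.Filt
import Groth.Agent.ClSubLib.EssSurj

/-!
Dévissage: reduction to pieces, comparison of pieces, pieces as direct images of ideals.
-/

set_option autoImplicit false
set_option backward.isDefEq.respectTransparency false

universe u

open CategoryTheory CategoryTheory.Limits AlgebraicGeometry TopologicalSpace Opposite

noncomputable section

namespace Groth.Agent.Devissage

open Groth.Agent.QC Groth.Agent.WeakAssLib

variable {X : Scheme.{u}}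

lemma notMem_closure_lt {ξ : X} {M : X.Modules} (h : IsSmall ξ M) : CohB1.support M ⊂ closure {ξ} :=
  ⟨h.1, fun hs => h.2 (hs (subset_closure rfl))⟩

theorem dev_core [IsNoetherian X] (P : X.Modules → Prop) (h0 : ∀ M : X.Modules, IsZero M → P M)
    (B : Closeds X)
    (hext : ∀ S : ShortComplex X.Modules, S.ShortExact → Coh.IsCoh S.X₁ → Coh.IsCoh S.X₂ → Coh.IsCoh S.X₃ →
      CohB1.support S.X₂ ⊆ B → P S.X₁ → P S.X₃ → P S.X₂)
    (hpiece : ∀ ξ ∈ B, (∀ M : X.Modules, Coh.IsCoh M → IsSmall ξ M → P M) →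
      ∀ R : X.Modules, IsPiece ξ R → P R)
    (M : X.Modules) (hM : Coh.IsCoh M) (hMB : CohB1.support M ⊆ B) : P M := by
  suffices ∀ C : Closeds X, C ≤ B → ∀ M : X.Modules, Coh.IsCoh M → CohB1.support M ⊆ C → P M from
    this B le_rfl M hM hMB
  intro C
  induction C using (wellFounded_lt (α := Closeds X)).induction with
  | _ C ih =>
    intro hC M hM hMC
    have hF := filt_of_isCoh M hM
    induction hF with
    | zero h => exact h0 _ h
    | @step N M R f g w ξ hS hN hNc hMc hR ihN =>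
      have hsupp := ClSubLib.support_shortExact _ hS
      have hN' : CohB1.support N ⊆ C := fun x hx => hMC (hsupp ▸ Or.inl hx)
      have hR' : CohB1.support R ⊆ C := fun x hx => hMC (hsupp ▸ Or.inr hx)
      refine hext _ hS hNc hMc hR.coh (hMC.trans hC) (ihN hNc hN') ?_
      refine hpiece ξ (hC (hR' hR.mem)) (fun M' hM' hs => ?_) R hR
      have hlt : (⟨CohB1.support M', isClosed_support (hM := hM'.2)⟩ : Closeds X) < C := by
        refine lt_of_lt_of_le (show _ < Zc ξ from ?_) (hR.support_eq ▸ hR' : (closure {ξ} : Set X) ⊆ C)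
        exact SetLike.coe_ssubset_coe.1 (notMem_closure_lt hs)
      exact ih _ hlt (hlt.le.trans hC) M' hM' subset_rfl

lemma cokSeq_shortExact {N M : X.Modules} (f : N ⟶ M) [Mono f] :
    (ShortComplex.mk f (cokernel.π f) (cokernel.condition f)).ShortExact :=
  { exact := ShortComplex.exact_of_g_is_cokernel _ (cokernelIsCokernel f) }

lemma isSmall_cokernel {ξ : X} {N M : X.Modules} (f : N ⟶ M) [Mono f]
    (hM : CohB1.support M ⊆ closure {ξ}) (h : Function.Surjective (stalkHom f ξ)) :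
    IsSmall ξ (cokernel f) :=
  ⟨fun _ hx => hM ((ClSubLib.support_shortExact _ (cokSeq_shortExact f)).symm ▸ Or.inr hx),
    notMem_support_of_surjective _ (cokSeq_shortExact f) ξ h⟩

/-- Any two pieces at a point have a common piece with small cokernels. -/
theorem piece_inter [IsNoetherian X] {ξ : X} {R₁ R₂ : X.Modules} (h₁ : IsPiece ξ R₁) (h₂ : IsPiece ξ R₂) :
    ∃ (I : X.Modules) (a : I ⟶ R₁) (b : I ⟶ R₂), Mono a ∧ Mono b ∧ IsPiece ξ I ∧
      IsSmall ξ (cokernel a) ∧ IsSmall ξ (cokernel b) := by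
  obtain ⟨j₁, hj₁⟩ := h₁.exists_mono
  obtain ⟨j₂, hj₂⟩ := h₂.exists_mono
  have ha := mono_pbFst j₁ j₂
  have hb := mono_pbSnd j₁ j₂
  have hsa : Function.Surjective (stalkHom (pbFst j₁ j₂) ξ) := fun m => by
    obtain ⟨m', hm'⟩ := h₂.stalk_surjective j₂ (stalkHom j₁ ξ m)
    obtain ⟨z, hz, -⟩ := exists_pb_stalk j₁ j₂ ξ m m' hm'.symm
    exact ⟨z, hz⟩
  have hsb : Function.Surjective (stalkHom (pbSnd j₁ j₂) ξ) := fun m => by
    obtain ⟨m', hm'⟩ := h₁.stalk_surjective j₁ (stalkHom j₂ ξ m)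
    obtain ⟨z, -, hz⟩ := exists_pb_stalk j₁ j₂ ξ m' m hm'
    exact ⟨z, hz⟩
  have hI : IsPiece ξ (pb j₁ j₂) :=
    ⟨isCoh_of_mono (pbFst j₁ j₂) h₁.coh (isQCoh_pb h₁.coh.1 h₂.coh.1 (isCoh_A ξ).1 j₁ j₂),
      ⟨pbFst j₁ j₂ ≫ j₁, inferInstance⟩, fun hsub => h₁.mem (hsa.subsingleton)⟩
  exact ⟨_, _, _, ha, hb, hI, isSmall_cokernel _ h₁.support_subset hsa,
    isSmall_cokernel _ h₂.support_subset hsb⟩

/-- The stalk at `ξ` is generated by any nonzero element. -/
def SimpleAt (ξ : X) (G : X.Modules) : Prop :=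
  ∀ m : G.presheaf.stalk ξ, m ≠ 0 → ∀ m', ∃ c : X.presheaf.stalk ξ, m' = c • m

/-- Two-out-of-three properties are detected by one module with simple generic stalk. -/
theorem piece_of_simple [IsNoetherian X] (P : X.Modules → Prop) (B : Closeds X)
    (h₁ : ∀ S : ShortComplex X.Modules, S.ShortExact → Coh.IsCoh S.X₁ → Coh.IsCoh S.X₂ → Coh.IsCoh S.X₃ →
      CohB1.support S.X₂ ⊆ B →
      (P S.X₁ → P S.X₂ → P S.X₃) ∧ (P S.X₁ → P S.X₃ → P S.X₂) ∧ (P S.X₂ → P S.X₃ → P S.X₁))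
    {ξ : X} (hξ : ξ ∈ B) (hsmall : ∀ M : X.Modules, Coh.IsCoh M → IsSmall ξ M → P M)
    (G : X.Modules) (hG : Coh.IsCoh G) (hsupp : CohB1.support G ⊆ closure {ξ})
    (hmem : ξ ∈ CohB1.support G) (hsimp : SimpleAt ξ G) (hPG : P G) {R : X.Modules} (hR : IsPiece ξ R) :
    P R := by
  have hcl : (closure {ξ} : Set X) ⊆ B := closure_minimal (Set.singleton_subset_iff.2 hξ) B.isClosed
  suffices ∀ M : X.Modules, Filt M → Coh.IsCoh M → CohB1.support M ⊆ closure {ξ} → ξ ∈ CohB1.support M →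
      SimpleAt ξ M → P M → ∃ R₀ : X.Modules, IsPiece ξ R₀ ∧ P R₀ by
    obtain ⟨R₀, hR₀, hP₀⟩ := this G (filt_of_isCoh G hG) hG hsupp hmem hsimp hPG
    obtain ⟨I, a, b, ha, hb, hI, hsa, hsb⟩ := piece_inter hR₀ hR
    have hca := isCoh_cokernel hI.coh.1 hR₀.coh a
    have hcb := isCoh_cokernel hI.coh.1 hR.coh b
    have hPI : P I := (h₁ _ (cokSeq_shortExact a) hI.coh hR₀.coh hca
      (hR₀.support_subset.trans hcl)).2.2 hP₀ (hsmall _ hca hsa)
    exact (h₁ _ (cokSeq_shortExact b) hI.coh hR.coh hcb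
      (hR.support_subset.trans hcl)).2.1 hPI (hsmall _ hcb hsb)
  intro M hF
  induction hF with
  | zero h => intro _ _ hm; rw [support_of_isZero h] at hm; exact hm.elim
  | @step N M R f g w ξ' hS hN hNc hMc hR ihN =>
    intro _ hMs hMm hsimp hPM
    have hsupp := ClSubLib.support_shortExact _ hS
    have hNs : CohB1.support N ⊆ closure {ξ} := fun x hx => hMs (hsupp ▸ Or.inl hx)
    have hRs : CohB1.support R ⊆ closure {ξ} := fun x hx => hMs (hsupp ▸ Or.inr hx)
    have h3 := h₁ _ hS hNc hMc hR.coh (hMs.trans hcl)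
    have : Mono f := hS.mono_f
    by_cases hNm : ξ ∈ CohB1.support N
    · have := not_subsingleton_iff_nontrivial.1 hNm
      obtain ⟨n, hn⟩ := exists_ne (0 : N.presheaf.stalk ξ)
      have hfn : stalkHom f ξ n ≠ 0 := fun h => hn (stalkHom_injective f ξ (h.trans (map_zero _).symm))
      have hsurj : Function.Surjective (stalkHom f ξ) := fun m => by
        obtain ⟨c, hc⟩ := hsimp _ hfn m
        exact ⟨c • n, (stalkHom_smul f ξ c n).trans hc.symm⟩
      have hRsm : IsSmall ξ R := ⟨hRs, notMem_support_of_surjective _ hS ξ hsurj⟩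
      refine ihN hNc hNs hNm (fun m hm m' => ?_) (h3.2.2 hPM (hsmall _ hR.coh hRsm))
      obtain ⟨c, hc⟩ := hsimp _ (fun h => hm (stalkHom_injective f ξ (h.trans (map_zero _).symm)))
        (stalkHom f ξ m')
      exact ⟨c, stalkHom_injective f ξ (hc.trans (stalkHom_smul f ξ c m).symm)⟩
    · refine ⟨R, ?_, h3.1 (hsmall _ hNc ⟨hNs, hNm⟩) hPM⟩
      have hξR : ξ ∈ CohB1.support R := (hsupp ▸ hMm : ξ ∈ CohB1.support N ∪ CohB1.support R).resolve_left hNm
      have h1 : ξ' ⤳ ξ := specializes_iff_mem_closure.2 (hR.support_subset hξR)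
      have h2 : ξ ⤳ ξ' := specializes_iff_mem_closure.2 (hRs hR.mem)
      rwa [(h1.antisymm h2).eq] at hR

lemma P_zero_of_twothree (P : X.Modules → Prop) (B : Closeds X)
    (h₁ : ∀ S : ShortComplex X.Modules, S.ShortExact → Coh.IsCoh S.X₁ → Coh.IsCoh S.X₂ → Coh.IsCoh S.X₃ →
      CohB1.support S.X₂ ⊆ B →
      (P S.X₁ → P S.X₂ → P S.X₃) ∧ (P S.X₁ → P S.X₃ → P S.X₂) ∧ (P S.X₂ → P S.X₃ → P S.X₁))
    (G : X.Modules) (hG : Coh.IsCoh G) (hGs : CohB1.support G ⊆ B) (hPG : P G)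
    (M : X.Modules) (hM : IsZero M) : P M := by
  have hS : (ShortComplex.mk (𝟙 G) (0 : G ⟶ M) comp_zero).ShortExact := by
    have : Epi (0 : G ⟶ M) := ⟨fun a b _ => hM.eq_of_src a b⟩
    exact { exact := (ShortComplex.exact_iff_epi _ rfl).2 (inferInstanceAs (Epi (𝟙 G))) }
  have := hS.epi_g
  have hMc : Coh.IsCoh M := isCoh_of_epi hG
    (isQCoh_of_iso ((isZero_kernel_of_mono (𝟙 G)).iso hM) (isQCoh_kernel hG.1 hG.1 _)) (0 : G ⟶ M)
  exact (h₁ _ hS hG hG hMc hGs).1 hPG hPG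

lemma Zi_isIntegral (ξ : X) : IsIntegral (Scheme.IdealSheafData.vanishingIdeal (Zc ξ)).subscheme := by
  have := DvrDom.isReduced_vanishingIdeal_subscheme (Zc ξ)
  have : IrreducibleSpace (Scheme.IdealSheafData.vanishingIdeal (Zc ξ)).subscheme := by
    obtain ⟨z, hz⟩ : ξ ∈ Set.range (Zi ξ) := by rw [range_Zi]; exact subset_closure rfl
    have hd : closure ({z} : Set _) = Set.univ := Set.eq_univ_of_forall fun y => by
      rw [← specializes_iff_mem_closure, ← (Zi ξ).isClosedEmbedding.isInducing.specializes_iff, hz]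
      exact specializes_Zi ξ y
    refine @IrreducibleSpace.mk _ _ ?_ ⟨z⟩
    exact ⟨by
      have h := (isIrreducible_singleton (x := z)).closure.isPreirreducible
      rwa [hd] at h⟩
  exact isIntegral_of_irreducibleSpace_of_isReduced _

lemma genericPoint_Zi (ξ : X) [IsIntegral (Scheme.IdealSheafData.vanishingIdeal (Zc ξ)).subscheme] :
    Zi ξ (genericPoint (Scheme.IdealSheafData.vanishingIdeal (Zc ξ)).subscheme) = ξ := by
  obtain ⟨z, hz⟩ : ξ ∈ Set.range (Zi ξ) := by rw [range_Zi]; exact subset_closure rfl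
  have h := (genericPoint_spec (Scheme.IdealSheafData.vanishingIdeal (Zc ξ)).subscheme).specializes
    (show z ∈ (⊤ : Set _) from trivial)
  have h' := h.map (Zi ξ).continuous
  rw [hz] at h'
  exact (h'.antisymm (specializes_Zi ξ _)).eq

/-- Pieces are direct images of ideals. -/
theorem piece_iso_push [IsNoetherian X] {ξ : X} {R : X.Modules} (hR : IsPiece ξ R) :
    ∃ (I : (Scheme.IdealSheafData.vanishingIdeal (Zc ξ)).subscheme.Modules)
      (ι : I ⟶ Coh.structureModule _), Mono ι ∧ Coh.IsQCoh I ∧ ¬ IsZero I ∧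
        Nonempty (R ≅ (Scheme.Modules.pushforward (Zi ξ)).obj I) := by
  obtain ⟨j, hj⟩ := hR.exists_mono
  have hk : ClSub.KilledByIdeal (Zi ξ).ker R := fun U a ha m => by
    refine app_injective_of_mono j U.1 ?_
    rw [map_zero]
    refine (Scheme.Modules.Hom.app_smul j a m).trans ?_
    show ((Zi ξ).app U.1).hom a * (show Γ((Scheme.IdealSheafData.vanishingIdeal (Zc ξ)).subscheme,
      (Zi ξ) ⁻¹ᵁ U.1) from j.app U.1 m) = 0
    rw [Scheme.Hom.ker_apply, RingHom.mem_ker] at ha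
    rw [ha, zero_mul]
  have := ClSubLib.isIso_unit (Zi ξ) R hk
  let adj := Scheme.Modules.pullbackPushforwardAdjunction (Zi ξ)
  let I := (Scheme.Modules.pullback (Zi ξ)).obj R
  let ι : I ⟶ Coh.structureModule _ := (adj.homEquiv _ _).symm j
  let e : R ≅ (Scheme.Modules.pushforward (Zi ξ)).obj I := asIso (adj.unit.app R)
  have hfac : e.hom ≫ (Scheme.Modules.pushforward (Zi ξ)).map ι = j := by
    show adj.unit.app R ≫ (Scheme.Modules.pushforward (Zi ξ)).map ι = j
    exact ((adj.homEquiv_unit _ _ ι).symm).trans ((adj.homEquiv _ _).apply_symm_apply j)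
  have hmono : Mono ((Scheme.Modules.pushforward (Zi ξ)).map ι) := by
    rw [show (Scheme.Modules.pushforward (Zi ξ)).map ι = e.inv ≫ j by rw [← hfac, Iso.inv_hom_id_assoc]]
    infer_instance
  refine ⟨I, ι, (mono_iff_app_injective ι).2 fun W => ?_, (isCoh_pullback (Zi ξ) hR.coh).1,
    fun hz => ?_, ⟨e⟩⟩
  · obtain ⟨O, hO, hWO⟩ := (Zi ξ).isClosedEmbedding.isInducing.isOpen_iff.1 W.isOpen
    obtain rfl : W = (Zi ξ) ⁻¹ᵁ ⟨O, hO⟩ := Opens.ext hWO.symm
    exact app_injective_of_mono ((Scheme.Modules.pushforward (Zi ξ)).map ι) ⟨O, hO⟩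
  · have := hR.mem
    rw [support_of_isZero (((Scheme.Modules.pushforward (Zi ξ)).map_isZero hz).of_iso e)] at this
    exact this

end Groth.Agent.Devissage
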