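import Groth.Agent.Devissage.Apply2
import Groth.Agent.SupportLib.Pull

/-!
The Serre subcategory of coherent modules generated by one coherent module.
-/

set_option autoImplicit false
set_option backward.isDefEq.respectTransparency false

universe u

open CategoryTheory CategoryTheory.Limits AlgebraicGeometry TopologicalSpace

noncomputable section

namespace Groth.Agent.Devissage

open Groth.Agent.QC Groth.Agent.WeakAssLib

attribute [local instance] Abelian.hasFiniteBiproducts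

variable {X : Scheme.{u}}

lemma exists_quotient_at [IsNoetherian X] (F : X.Modules) (hF : Coh.IsCoh F) {ξ : X}
    (hξ : ξ ∈ CohB1.support F) : ∃ (K G : X.Modules) (f : K ⟶ F) (g : F ⟶ G) (w : f ≫ g = 0),
      (ShortComplex.mk f g w).ShortExact ∧ Coh.IsCoh K ∧ Coh.IsCoh G ∧
        CohB1.support G ⊆ closure {ξ} ∧ ξ ∈ CohB1.support G := by
  let i := Zi ξ
  let H := (Scheme.Modules.pullback i).obj F
  have hH : Coh.IsCoh H := QC.isCoh_pullback i hF
  haveI : H.IsQuasicoherent := hH.1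
  let T := (Scheme.Modules.pushforward i).obj H
  have hT : Coh.IsCoh T := ⟨isQCoh_pushforward _, (isCoh_pushforward_of_isFinite i hH.2).2⟩
  let η : F ⟶ T := (Scheme.Modules.pullbackPushforwardAdjunction i).unit.app F
  let f := kernel.ι η
  let m : cokernel f ⟶ T := cokernel.desc f η (kernel.condition η)
  haveI : Mono m := inferInstanceAs (Mono (Abelian.factorThruCoimage η))
  have hK : Coh.IsCoh (kernel η) := isCoh_of_mono f hF (isQCoh_kernel hF.1 hT.1 η)
  have hG : Coh.IsCoh (cokernel f) := QC.isCoh_cokernel hK.1 hF f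
  refine ⟨_, _, f, cokernel.π f, cokernel.condition f, cokSeq_shortExact f, hK, hG,
    (support_subset_of_mono m).trans ((ClSubLib.support_pushforward_subset i _).trans (range_Zi ξ).le), ?_⟩
  intro hsub
  obtain ⟨z, hz⟩ : ξ ∈ Set.range i := by rw [range_Zi]; exact subset_closure rfl
  haveI : Coh.IsQCoh F := hF.1
  have hzH : z ∈ CohB1.support H := by
    rw [SupportLib.support_pullback i F hF.2]
    show i z ∈ CohB1.support F
    rw [hz]; exact hξ
  refine hzH ?_
  have hzero : ∀ y : F.presheaf.stalk (i z), stalkHom η (i z) y = 0 := by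
    intro y
    have hsub' : Subsingleton ((cokernel f).presheaf.stalk (i z)) := by rw [hz]; exact hsub
    have h1 : stalkHom (cokernel.π f ≫ m) (i z) y = stalkHom m (i z) (stalkHom (cokernel.π f) (i z) y) :=
      stalkHom_comp _ _ _ _
    have h2 : cokernel.π f ≫ m = η := cokernel.π_desc _ _ _
    rw [h2, hsub'.elim (stalkHom (cokernel.π f) (i z) y) 0, map_zero] at h1
    exact h1
  have hkap : ∀ y, KFlat.kap i z F y = 0 := fun y => by
    obtain ⟨U, hU, s, rfl⟩ := KFlat.exists_pgerm (DCoh.toP.obj F) (i z) y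
    refine (KFlat.kap_germ i z F U hU s).trans ?_
    refine (KFlat.pushStalk_germ i z _ U hU _).symm.trans ?_
    refine (congrArg (KFlat.pushStalk i z _) (KFlat.pstMap_germ (DCoh.toP.map η) _ hU s)).symm.trans ?_
    exact (congrArg (KFlat.pushStalk i z _) (hzero _)).trans (map_zero _)
  have h := KFlat.pull_stalk_ext i z F (g := 𝟙 ((DerSch.stalkFunctor _ z).obj H)) (g' := 0) fun y => hkap y
  exact ModuleCat.subsingleton_of_isZero ((IsZero.iff_id_eq_zero _).2 h)

theorem serre_closure [IsNoetherian X] (P : X.Modules → Prop) (F : X.Modules) (hF : Coh.IsCoh F) (hPF : P F)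
    (hP : ∀ S : ShortComplex X.Modules, S.ShortExact → Coh.IsCoh S.X₁ → Coh.IsCoh S.X₂ → Coh.IsCoh S.X₃ →
      (P S.X₂ ↔ P S.X₁ ∧ P S.X₃))
    (E : X.Modules) (hE : Coh.IsCoh E) (hsupp : CohB1.support E ⊆ CohB1.support F) : P E := by
  have h0 : ∀ N : X.Modules, IsZero N → P N := fun N hN => by
    have hS : (ShortComplex.mk (0 : N ⟶ F) (𝟙 F) zero_comp).ShortExact := by
      have : Mono (0 : N ⟶ F) := ⟨fun a b _ => hN.eq_of_tgt a b⟩
      exact { exact := (ShortComplex.exact_iff_mono _ rfl).2 (inferInstanceAs (Mono (𝟙 F))) }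
    have hNc : Coh.IsCoh N := by
      have : Mono (0 : N ⟶ F) := hS.mono_f
      exact isCoh_of_mono (0 : N ⟶ F) hF
        (QC.isQCoh_of_iso ((isZero_kernel_of_mono (𝟙 F)).iso hN) (isQCoh_kernel hF.1 hF.1 _))
    exact ((hP _ hS hNc hF hF).1 hPF).1
  have hpieces : ∀ M : X.Modules, Filt M → Coh.IsCoh M → P M → ∀ ξ : X, CohB1.support M ⊆ closure {ξ} →
      ξ ∈ CohB1.support M → ∃ R₀, IsPiece ξ R₀ ∧ P R₀ := by
    intro M hM
    induction hM with
    | zero h => intro _ _ ξ _ hm; rw [support_of_isZero h] at hm; exact hm.elim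
    | @step N M R f g w ξ' hS hN hNc hMc hR ihN =>
      intro _ hPM ξ hMs hMm
      have hsupp := ClSubLib.support_shortExact _ hS
      obtain ⟨hPN, hPR⟩ := (hP _ hS hNc hMc hR.coh).1 hPM
      by_cases hNm : ξ ∈ CohB1.support N
      · exact ihN hNc hPN ξ (fun x hx => hMs (hsupp ▸ Or.inl hx)) hNm
      · have hξR : ξ ∈ CohB1.support R :=
          (hsupp ▸ hMm : ξ ∈ CohB1.support N ∪ CohB1.support R).resolve_left hNm
        have h1 : ξ' ⤳ ξ := specializes_iff_mem_closure.2 (hR.support_subset hξR)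
        have h2 : ξ ⤳ ξ' := specializes_iff_mem_closure.2 (hMs (hsupp ▸ Or.inr hR.mem))
        rw [(h1.antisymm h2).eq] at hR
        exact ⟨R, hR, hPR⟩
  refine dev_core P h0 ⟨CohB1.support F, isClosed_support (hM := hF.2)⟩
    (fun S hS a b c _ h1 h3 => (hP S hS a b c).2 ⟨h1, h3⟩) (fun ξ hξ hsmall R hR => ?_) E hE hsupp
  obtain ⟨K, G, f, g, w, hS, hK, hG, hGs, hGm⟩ := exists_quotient_at F hF hξ
  obtain ⟨R₀, hR₀, hP₀⟩ := hpieces G (filt_of_isCoh G hG) hG ((hP _ hS hK hF hG).1 hPF).2 ξ hGs hGm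
  obtain ⟨I, a, b, ha, hb, hI, hsa, hsb⟩ := piece_inter hR₀ hR
  have hca := isCoh_cokernel hI.coh.1 hR₀.coh a
  have hcb := isCoh_cokernel hI.coh.1 hR.coh b
  exact (hP _ (cokSeq_shortExact b) hI.coh hR.coh hcb).2
    ⟨((hP _ (cokSeq_shortExact a) hI.coh hR₀.coh hca).1 hP₀).1, hsmall _ hcb hsb⟩

lemma isClosed_support' {F : X.Modules} (hF : Coh.IsCoh F) : IsClosed (CohB1.support F) :=
  isClosed_support (hM := hF.2)

/-- Dévissage for Serre classes from the pieces. -/
theorem serre_of_pieces [IsNoetherian X] (P : X.Modules → Prop) (B : Closeds X)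
    (hP : ∀ S : ShortComplex X.Modules, S.ShortExact → Coh.IsCoh S.X₁ → Coh.IsCoh S.X₂ → Coh.IsCoh S.X₃ →
      (P S.X₂ ↔ P S.X₁ ∧ P S.X₃))
    (h0 : ∀ N : X.Modules, IsZero N → Coh.IsCoh N → P N)
    (hpiece : ∀ ξ ∈ B, ∀ R : X.Modules, IsPiece ξ R → P R)
    (M : X.Modules) (hM : Coh.IsCoh M) (hMB : CohB1.support M ⊆ B) : P M :=
  (dev_core (fun M => Coh.IsCoh M → P M) h0 B
    (fun S hS a b c _ h1 h3 _ => (hP S hS a b c).2 ⟨h1 a, h3 c⟩)
    (fun ξ hξ _ R hR _ => hpiece ξ hξ R hR) M hM hMB) hM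

end Groth.Agent.Devissage
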